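import Mathlib

/-!
# S5261 (fusion systems on a Sylow `p`-subgroup of `³D₄(q)`): the cubic extension `K / F`.
`ℓ` = trace, `N` = norm, `sh x = x^#`, `cr x y = x × y`.  See `docs/FD.md`.
-/

set_option autoImplicit false

namespace Cfsg.Lib.FD

/-- The cubic extension of finite fields. -/
structure CB (F K : Type*) [Field F] [Field K] where
  ι : F →+* K
  φ : K →+* K
  ℓ : K → F
  N : K → F
  φ3 : ∀ x, φ (φ (φ x)) = x
  φι : ∀ l, φ (ι l) = ι l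
  fix : ∀ x, φ x = x → ∃ l, ι l = x
  ιℓ : ∀ x, ι (ℓ x) = x + φ x + φ (φ x)
  ιN : ∀ x, ι (N x) = x * φ x * φ (φ x)
  ne : ∃ x, φ x ≠ x
  pw : ∀ x, φ x = x ^ Nat.card F
  card : Nat.card K = Nat.card F ^ 3

namespace CB

variable {F K : Type*} [Field F] [Field K] (c : CB F K)

/-- `x^#`. -/
def sh (x : K) : K := c.φ x * c.φ (c.φ x)
/-- `x × y`. -/
def cr (x y : K) : K := c.φ x * c.φ (c.φ y) + c.φ (c.φ x) * c.φ y

theorem inj {a b : F} (h : c.ι a = c.ι b) : a = b := c.ι.injective h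

@[simp] theorem ℓ_zero : c.ℓ 0 = 0 := c.inj (by simp [c.ιℓ])
@[simp] theorem N_zero : c.N 0 = 0 := c.inj (by simp [c.ιN])
@[simp] theorem sh_zero : c.sh 0 = 0 := by simp [sh]
@[simp] theorem cr_zero (x : K) : c.cr x 0 = 0 := by simp [cr]
@[simp] theorem zero_cr (x : K) : c.cr 0 x = 0 := by simp [cr]
@[simp] theorem N_one : c.N 1 = 1 := c.inj (by simp [c.ιN])
@[simp] theorem sh_one : c.sh 1 = 1 := by simp [sh]
theorem ℓ_add (x y : K) : c.ℓ (x + y) = c.ℓ x + c.ℓ y := c.inj (by simp only [c.ιℓ, map_add]; ring)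
theorem ℓ_neg (x : K) : c.ℓ (-x) = -c.ℓ x := c.inj (by simp only [c.ιℓ, map_neg]; ring)
theorem ℓ_sub (x y : K) : c.ℓ (x - y) = c.ℓ x - c.ℓ y := c.inj (by simp only [c.ιℓ, map_sub]; ring)
theorem ℓ_φ (x : K) : c.ℓ (c.φ x) = c.ℓ x := c.inj (by simp only [c.ιℓ, c.φ3]; ring)
theorem N_φ (x : K) : c.N (c.φ x) = c.N x := c.inj (by simp only [c.ιN, c.φ3]; ring)
theorem ℓ_ι (l : F) (x : K) : c.ℓ (c.ι l * x) = l * c.ℓ x :=
  c.inj (by simp only [c.ιℓ, map_mul, c.φι]; ring)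
theorem ℓ_ι' (l : F) (x y : K) : c.ℓ (x * (c.ι l * y)) = l * c.ℓ (x * y) := by
  rw [mul_left_comm, ℓ_ι]
theorem ℓ_ι'' (l : F) (x y : K) : c.ℓ (c.ι l * x * y) = l * c.ℓ (x * y) := by rw [mul_assoc, ℓ_ι]
theorem ℓ_ι1 (l : F) : c.ℓ (c.ι l) = 3 * l :=
  c.inj (by simp only [c.ιℓ, c.φι, map_mul, map_ofNat]; ring)
theorem N_mul (x y : K) : c.N (x * y) = c.N x * c.N y := c.inj (by simp only [c.ιN, map_mul]; ring)
theorem N_neg (x : K) : c.N (-x) = -c.N x := c.inj (by simp only [c.ιN, map_neg]; ring)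
theorem N_inv (x : K) : c.N x⁻¹ = (c.N x)⁻¹ := c.inj (by simp only [c.ιN, map_inv₀]; ring)
theorem N_ι1 (l : F) : c.N (c.ι l) = l ^ 3 := c.inj (by simp only [c.ιN, map_pow, c.φι]; ring)
theorem N_ι (l : F) (x : K) : c.N (c.ι l * x) = l ^ 3 * c.N x := by rw [N_mul, N_ι1]
theorem N_add (x y : K) : c.N (x + y) = c.N x + c.ℓ (y * c.sh x) + c.ℓ (x * c.sh y) + c.N y :=
  c.inj (by simp only [c.ιN, c.ιℓ, sh, map_add, map_mul, c.φ3]; ring)
theorem N_sh (x : K) : c.N (c.sh x) = c.N x ^ 2 :=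
  c.inj (by simp only [c.ιN, sh, map_mul, map_pow, c.φ3]; ring)
theorem sh_mul (x y : K) : c.sh (x * y) = c.sh x * c.sh y := by simp only [sh, map_mul]; ring
theorem sh_neg (x : K) : c.sh (-x) = c.sh x := by simp only [sh, map_neg]; ring
theorem sh_inv (x : K) : c.sh x⁻¹ = (c.sh x)⁻¹ := by simp only [sh, map_inv₀]; ring
theorem sh_ι1 (l : F) : c.sh (c.ι l) = c.ι l ^ 2 := by simp only [sh, c.φι]; ring
theorem sh_ι (l : F) (x : K) : c.sh (c.ι l * x) = c.ι l ^ 2 * c.sh x := by rw [sh_mul, sh_ι1]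
theorem sh_add (x y : K) : c.sh (x + y) = c.sh x + c.sh y + c.cr x y := by
  simp only [sh, cr, map_add]; ring
theorem sh_sh (x : K) : c.sh (c.sh x) = c.ι (c.N x) * x := by
  simp only [sh, map_mul, c.φ3, c.ιN]; ring
theorem cr_comm (x y : K) : c.cr x y = c.cr y x := by simp only [cr]; ring
theorem cr_add (x y z : K) : c.cr x (y + z) = c.cr x y + c.cr x z := by simp only [cr, map_add]; ring
theorem add_cr (x y z : K) : c.cr (x + y) z = c.cr x z + c.cr y z := by simp only [cr, map_add]; ring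
theorem cr_neg (x y : K) : c.cr x (-y) = -c.cr x y := by simp only [cr, map_neg]; ring
theorem neg_cr (x y : K) : c.cr (-x) y = -c.cr x y := by simp only [cr, map_neg]; ring
theorem cr_sub (x y z : K) : c.cr x (y - z) = c.cr x y - c.cr x z := by simp only [cr, map_sub]; ring
theorem cr_ι (l : F) (x y : K) : c.cr x (c.ι l * y) = c.ι l * c.cr x y := by
  simp only [cr, map_mul, c.φι]; ring
theorem ι_cr (l : F) (x y : K) : c.cr (c.ι l * x) y = c.ι l * c.cr x y := by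
  simp only [cr, map_mul, c.φι]; ring
theorem cr_mul (l x y : K) : c.cr (l * x) (l * y) = c.sh l * c.cr x y := by
  simp only [cr, sh, map_mul]; ring
theorem cr_self (x : K) : c.cr x x = 2 * c.sh x := by simp only [cr, sh]; ring
theorem mul_sh (x : K) : x * c.sh x = c.ι (c.N x) := by simp only [sh, c.ιN]; ring
theorem ℓ_mul_sh (x : K) : c.ℓ (x * c.sh x) = 3 * c.N x := by rw [mul_sh, ℓ_ι1]
theorem ℓ_cr_comm (x y z : K) : c.ℓ (x * c.cr y z) = c.ℓ (y * c.cr x z) :=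
  c.inj (by simp only [c.ιℓ, cr, map_mul, map_add, c.φ3]; ring)
theorem ℓ_cr_left (x y : K) : c.ℓ (x * c.cr x y) = 2 * c.ℓ (y * c.sh x) :=
  c.inj (by simp only [c.ιℓ, cr, sh, map_mul, map_add, map_ofNat, c.φ3]; ring)
theorem sh_cr (x y : K) : c.cr (c.sh x) (c.cr x y) = c.ι (c.ℓ (y * c.sh x)) * x + c.ι (c.N x) * y := by
  simp only [c.ιℓ, c.ιN, cr, sh, map_mul, map_add, c.φ3]; ring
theorem cr_sh (x y : K) : c.cr x (c.cr (c.sh x) y) = c.ι (c.ℓ (x * y)) * c.sh x + c.ι (c.N x) * y := by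
  simp only [c.ιℓ, c.ιN, cr, sh, map_mul, map_add, c.φ3]; ring
theorem cubic (x : K) : x ^ 3 - c.ι (c.ℓ x) * x ^ 2 + c.ι (c.ℓ (c.sh x)) * x - c.ι (c.N x) = 0 := by
  simp only [c.ιℓ, c.ιN, sh, map_mul, c.φ3]; ring
theorem φ_ne {x : K} (h : x ≠ 0) : c.φ x ≠ 0 := (map_ne_zero _).2 h
theorem N_ne {x : K} (h : x ≠ 0) : c.N x ≠ 0 := fun e => by
  have := c.ιN x
  rw [e, map_zero] at this
  exact mul_ne_zero (mul_ne_zero h (c.φ_ne h)) (c.φ_ne (c.φ_ne h)) this.symm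
theorem N_eq_zero {x : K} : c.N x = 0 ↔ x = 0 :=
  ⟨fun e => by_contra fun h => c.N_ne h e, fun e => e ▸ c.N_zero⟩
theorem sh_ne {x : K} (h : x ≠ 0) : c.sh x ≠ 0 := mul_ne_zero (c.φ_ne h) (c.φ_ne (c.φ_ne h))
theorem sh_eq_zero {x : K} : c.sh x = 0 ↔ x = 0 :=
  ⟨fun e => by_contra fun h => c.sh_ne h e, fun e => e ▸ c.sh_zero⟩
theorem ι_ne {l : F} (h : l ≠ 0) : c.ι l ≠ 0 := (map_ne_zero _).2 h
theorem ι_eq_zero {l : F} : c.ι l = 0 ↔ l = 0 := map_eq_zero _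

theorem exists_ℓ_ne : ∃ x, c.ℓ x ≠ 0 := by
  by_contra! h
  obtain ⟨r, hr⟩ := c.ne
  have e : ∀ x, x + c.φ x + c.φ (c.φ x) = 0 := fun x => by rw [← c.ιℓ, h, map_zero]
  have hr3 : c.φ (c.φ r) ≠ r := fun e => hr (by have := c.φ3 r; rwa [e] at this)
  have key : ∀ x, x * ((r - c.φ r) * (r - c.φ (c.φ r))) = 0 := fun x => by
    have a1 := e x
    have a2 := e (x * r)
    have a3 := e (x * r * r)
    simp only [map_mul] at a2 a3
    linear_combination a3 - (c.φ r + c.φ (c.φ r)) * a2 + c.φ r * c.φ (c.φ r) * a1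
  have := key 1
  rw [one_mul, mul_eq_zero, sub_eq_zero, sub_eq_zero] at this
  exact this.elim (fun e => hr e.symm) fun e => hr3 e.symm

theorem exists_ℓ {s : K} (h : s ≠ 0) (a : F) : ∃ u, c.ℓ (s * u) = a := by
  obtain ⟨x, hx⟩ := c.exists_ℓ_ne
  exact ⟨s⁻¹ * (c.ι (a / c.ℓ x) * x), by rw [mul_inv_cancel_left₀ h, ℓ_ι, div_mul_cancel₀ _ hx]⟩
theorem eq_zero_of_ℓ {s : K} (h : ∀ u, c.ℓ (s * u) = 0) : s = 0 := by
  by_contra hs
  obtain ⟨u, hu⟩ := c.exists_ℓ hs 1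
  exact one_ne_zero (hu.symm.trans (h u))
theorem eq_of_ℓ {s s' : K} (h : ∀ u, c.ℓ (s * u) = c.ℓ (s' * u)) : s = s' :=
  sub_eq_zero.1 (c.eq_zero_of_ℓ fun u => by rw [sub_mul, ℓ_sub, h, sub_self])

/-- For odd characteristic `×` has no zero divisors. -/
theorem cr_eq_zero (h2 : (2 : K) ≠ 0) {x y : K} (h : c.cr x y = 0) : x = 0 ∨ y = 0 := by
  by_contra! hc
  have e1 : c.φ (x * c.φ y + c.φ x * y) = 0 := by simpa only [cr, map_mul, map_add] using h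
  have e2 := (map_eq_zero _).1 e1
  have e3 := congrArg c.φ h
  simp only [cr, map_add, map_mul, c.φ3, map_zero] at e3 h
  have : 2 * (x * c.φ (c.φ x) * c.φ y) = 0 := by
    linear_combination x * h + c.φ (c.φ x) * e2 - c.φ x * e3
  simp [h2, hc.1, hc.2] at this

/-- In characteristic two, `τ × s = 0 ↔ s ∈ F τ`. -/
theorem cr_eq_zero_two (h2 : (2 : K) = 0) {τ s : K} (h : τ ≠ 0) : c.cr τ s = 0 ↔ ∃ l, s = c.ι l * τ := by
  refine ⟨fun e => ?_, by rintro ⟨l, rfl⟩; rw [cr_ι, cr_self, h2, zero_mul, mul_zero]⟩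
  have e1 : c.φ (τ * c.φ s + c.φ τ * s) = 0 := by simpa only [cr, map_mul, map_add] using e
  have e2 := (map_eq_zero _).1 e1
  have h' : c.φ τ ≠ 0 := c.φ_ne h
  obtain ⟨l, hl⟩ := c.fix (s / τ) (by
    rw [map_div₀]; field_simp; linear_combination e2 - c.φ τ * s * h2)
  exact ⟨l, by rw [hl]; field_simp⟩

/-- Automorphisms of `K` commute with `φ`. -/
theorem θφ (θ : K →+* K) (x : K) : θ (c.φ x) = c.φ (θ x) := by rw [c.pw, c.pw, map_pow]

include c in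
theorem two_iff : (2 : K) = 0 ↔ (2 : F) = 0 := by rw [← map_ofNat c.ι 2, map_eq_zero]

include c in
theorem charP_F (p : ℕ) [CharP K p] : CharP F p := c.ι.charP c.ι.injective p

end CB

end Cfsg.Lib.FD
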