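import Cfsg.Agent.Lib.FD.Alg

/-!
# S5261: linear algebra in the cubic extension.
-/

set_option autoImplicit false
set_option linter.unusedSectionVars false

namespace Cfsg.Lib.FD.CB

variable {F K : Type*} [Field F] [Field K] (k : CB F K)

/-- `x, y` are linearly independent over `F`. -/
def Ind (x y : K) : Prop := ∀ a b : F, k.ι a * x + k.ι b * y = 0 → a = 0 ∧ b = 0

/-- Not independent: `x = 0` or `y ∈ F x` (if `a x + b y = 0`, `b ≠ 0` gives `y = -a/b x`, `b = 0 ≠ a` gives `x = 0`). -/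
theorem not_ind {x y : K} (h : ¬ k.Ind x y) : x = 0 ∨ ∃ a, y = k.ι a * x := by
  simp only [Ind, not_forall] at h
  obtain ⟨a, b, e, n⟩ := h
  by_cases hb : b = 0
  · rw [hb, map_zero, zero_mul, add_zero, mul_eq_zero, k.ι_eq_zero] at e
    exact .inl (e.resolve_left fun ha => n ⟨ha, hb⟩)
  · have := k.ι_ne hb
    exact .inr ⟨-a / b, by rw [map_div₀, map_neg]; field_simp; linear_combination e⟩

theorem ind_of {x y : K} (hx : x ≠ 0) (h : ∀ a, y ≠ k.ι a * x) : k.Ind x y := by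
  by_contra n
  exact (k.not_ind n).elim hx fun ⟨a, e⟩ => h a e

theorem φ_ne_of {r : K} (hr : ∀ l, k.ι l ≠ r) :
    r - k.φ r ≠ 0 ∧ k.φ r - k.φ (k.φ r) ≠ 0 ∧ r - k.φ (k.φ r) ≠ 0 := by
  have h1 : r - k.φ r ≠ 0 := fun e => (k.fix r (sub_eq_zero.1 e).symm).elim hr
  refine ⟨h1, by simpa only [map_sub] using k.φ_ne h1, fun e => h1 ?_⟩
  have := congrArg k.φ e
  rw [map_sub, k.φ3, map_zero] at this
  linear_combination -this

/-- `r, φ r, φ² r` are three distinct roots (`fix`; `φ² r = r` gives `φ r = r` by `φ3`). -/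
theorem quad_zero {r : K} (hr : ∀ l, k.ι l ≠ r) {a b c : F}
    (h : k.ι a * r ^ 2 + k.ι b * r + k.ι c = 0) : a = 0 ∧ b = 0 ∧ c = 0 := by
  obtain ⟨n1, n2, n3⟩ := k.φ_ne_of hr
  have h1 := congrArg k.φ h
  have h2 := congrArg k.φ h1
  simp only [map_add, map_mul, map_pow, k.φι, map_zero] at h1 h2
  have e1 : k.ι a * (r + k.φ r) + k.ι b = 0 := mul_left_cancel₀ n1 (by linear_combination h - h1)
  have e2 : k.ι a * (k.φ r + k.φ (k.φ r)) + k.ι b = 0 := mul_left_cancel₀ n2 (by linear_combination h1 - h2)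
  have ha : k.ι a = 0 := mul_left_cancel₀ n3 (by linear_combination e1 - e2)
  have hb : k.ι b = 0 := by linear_combination e1 - (r + k.φ r) * ha
  exact ⟨k.ι_eq_zero.1 ha, k.ι_eq_zero.1 hb, k.ι_eq_zero.1 (by linear_combination h - r ^ 2 * ha - r * hb)⟩

theorem Ind.ne {k : CB F K} {x y : K} (h : k.Ind x y) : x ≠ 0 := fun e =>
  one_ne_zero (h 1 0 (by simp [e])).1

theorem Ind.div {k : CB F K} {x y : K} (h : k.Ind x y) (l : F) : k.ι l ≠ y / x := fun e =>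
  one_ne_zero (h (-l) 1 (by rw [map_neg, e, map_one, neg_mul, div_mul_cancel₀ _ h.ne]; ring)).2

/-- Put `y = r x`, divide by `x^#` (`cr_mul`, `sh_mul`; `1 × r = ℓ r - r`, `r r^# = N r`), multiply by `r`, use
`quad_zero`. -/
theorem Ind.sh {x y : K} (h : k.Ind x y) {a b c : F}
    (e : k.ι a * k.sh x + k.ι b * k.cr x y + k.ι c * k.sh y = 0) : a = 0 ∧ b = 0 ∧ c = 0 := by
  have hx := h.ne
  obtain ⟨r, rfl⟩ : ∃ r, y = r * x := ⟨y / x, (div_mul_cancel₀ _ hx).symm⟩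
  have hr : ∀ l, k.ι l ≠ r := fun l => by simpa only [mul_div_cancel_right₀ _ hx] using h.div l
  obtain ⟨h1, h2, h3⟩ := k.quad_zero hr (a := -b) (b := a + b * k.ℓ r) (c := c * k.N r)
    (mul_left_cancel₀ (k.sh_ne hx) (by
      simp only [CB.sh, cr, map_mul, map_add, map_neg, k.ιℓ, k.ιN] at e ⊢
      linear_combination r * e))
  have hb := neg_eq_zero.1 h1
  exact ⟨by simpa [hb] using h2, hb, (mul_eq_zero.1 h3).resolve_right (k.N_ne fun e => hr 0 (by simp [e]))⟩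

variable [Finite F] [Finite K]

/-- `(a, b, c) ↦ a r² + b r + c` is injective (`quad_zero`), `card`. -/
theorem exists_basis {r : K} (hr : ∀ l, k.ι l ≠ r) (x : K) :
    ∃ a b c : F, x = k.ι a * r ^ 2 + k.ι b * r + k.ι c := by
  have : Function.Bijective fun v : F × F × F => k.ι v.1 * r ^ 2 + k.ι v.2.1 * r + k.ι v.2.2 := by
    refine (Nat.bijective_iff_injective_and_card _).2 ⟨fun v w e => ?_, by simp only [Nat.card_prod, k.card]; ring⟩
    obtain ⟨h1, h2, h3⟩ := k.quad_zero hr (a := v.1 - w.1) (b := v.2.1 - w.2.1) (c := v.2.2 - w.2.2) (by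
      simp only [map_sub]; linear_combination e)
    exact Prod.ext (sub_eq_zero.1 h1) (Prod.ext (sub_eq_zero.1 h2) (sub_eq_zero.1 h3))
  obtain ⟨v, e⟩ := this.2 x
  exact ⟨_, _, _, e.symm⟩

/-- `u ↦ (ℓ (x u), ℓ (y u))` is onto: make `K` an `F`-algebra through `ι`; or by hand: `u₁` with `ℓ (x u₁) = 1`;
`y' = y - ℓ (y u₁) x ≠ 0`; `u₂` with `ℓ (y' u₂) = 1`, `u₃ = u₂ - ℓ (x u₂) u₁` has `ℓ (x u₃) = 0`, `ℓ (y u₃) = 1`. -/
theorem Ind.exists_ℓ {x y : K} (h : k.Ind x y) (a b : F) : ∃ u, k.ℓ (x * u) = a ∧ k.ℓ (y * u) = b := by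
  obtain ⟨u, hu⟩ := k.exists_ℓ h.ne 1
  have n : y - k.ι (k.ℓ (y * u)) * x ≠ 0 := fun e =>
    one_ne_zero (h (-k.ℓ (y * u)) 1 (by rw [map_neg, map_one]; linear_combination e)).2
  obtain ⟨v, hv⟩ := k.exists_ℓ n (b - a * k.ℓ (y * u))
  rw [sub_mul, k.ℓ_sub, k.ℓ_ι''] at hv
  refine ⟨v + k.ι (a - k.ℓ (x * v)) * u, ?_, ?_⟩
  · rw [mul_add, k.ℓ_add, k.ℓ_ι', hu]; ring
  · rw [mul_add, k.ℓ_add, k.ℓ_ι']; linear_combination hv

/-- `not_ind` and `Ind.exists_ℓ`. -/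
theorem mem_span1 {x y : K} (hx : x ≠ 0) (h : ∀ u, k.ℓ (x * u) = 0 → k.ℓ (y * u) = 0) :
    ∃ a, y = k.ι a * x := by
  by_contra n
  push Not at n
  obtain ⟨u, h1, h2⟩ := Ind.exists_ℓ k (k.ind_of hx n) 0 1
  exact one_ne_zero (h2.symm.trans (h u h1))

/-- With dual vectors `u₁, u₂` (`Ind.exists_ℓ`), `z - ℓ (z u₁) x - ℓ (z u₂) y` kills everything. -/
theorem mem_span2 {x y z : K} (h : k.Ind x y)
    (e : ∀ u, k.ℓ (x * u) = 0 → k.ℓ (y * u) = 0 → k.ℓ (z * u) = 0) :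
    ∃ a b, z = k.ι a * x + k.ι b * y := by
  obtain ⟨u, u1, u2⟩ := Ind.exists_ℓ k h 1 0
  obtain ⟨v, v1, v2⟩ := Ind.exists_ℓ k h 0 1
  refine ⟨k.ℓ (z * u), k.ℓ (z * v), k.eq_of_ℓ fun w => ?_⟩
  have := e (w - k.ι (k.ℓ (x * w)) * u - k.ι (k.ℓ (y * w)) * v)
    (by simp only [mul_sub, k.ℓ_sub, k.ℓ_ι', u1, v1]; ring) (by simp only [mul_sub, k.ℓ_sub, k.ℓ_ι', u2, v2]; ring)
  simp only [mul_sub, add_mul, k.ℓ_sub, k.ℓ_add, k.ℓ_ι', k.ℓ_ι''] at this ⊢
  linear_combination this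

include k in
theorem not_inj {A : Type*} [Finite A] (hA : Nat.card A ≤ Nat.card F ^ 2) (f : K → A) :
    ∃ u v, f u = f v ∧ u ≠ v := Function.not_injective_iff.1 fun h => by
  have := (Nat.card_le_card_of_injective f h).trans hA
  rw [k.card] at this
  exact absurd this (not_le.2 (Nat.pow_lt_pow_right Finite.one_lt_card (by norm_num)))

/-- `K → F × F` is not injective (`card`). -/
theorem exists_perp (x y : K) : ∃ u ≠ 0, k.ℓ (x * u) = 0 ∧ k.ℓ (y * u) = 0 := by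
  obtain ⟨u, v, e, n⟩ := k.not_inj (by rw [Nat.card_prod, sq]) fun u => (k.ℓ (x * u), k.ℓ (y * u))
  simp only [Prod.mk.injEq] at e
  exact ⟨u - v, sub_ne_zero.2 n, by rw [mul_sub, k.ℓ_sub, e.1, sub_self], by rw [mul_sub, k.ℓ_sub, e.2, sub_self]⟩

/-- `u` from `exists_perp`, `w` with `ℓ (w u) = 1`, `v` from `exists_perp ρ w`. -/
theorem exists_ind_perp (ρ : K) : ∃ u v, k.Ind u v ∧ k.ℓ (ρ * u) = 0 ∧ k.ℓ (ρ * v) = 0 := by
  obtain ⟨u, u0, u1, -⟩ := k.exists_perp ρ ρ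
  obtain ⟨w, hw⟩ := k.exists_ℓ u0 1
  obtain ⟨v, v0, v1, v2⟩ := k.exists_perp ρ w
  refine ⟨u, v, k.ind_of u0 fun a e => v0 ?_, u1, v1⟩
  rw [e, k.ℓ_ι', mul_comm w, hw, mul_one] at v2
  rw [e, v2, map_zero, zero_mul]

/-- `exists_basis`. -/
theorem eq_id_of_fix (θ : K ≃+* K) (hθ : ∀ l, θ (k.ι l) = k.ι l) {r : K} (hr : ∀ l, k.ι l ≠ r)
    (e : θ r = r) (x : K) : θ x = x := by
  obtain ⟨a, b, c, rfl⟩ := k.exists_basis hr x
  simp only [map_add, map_mul, map_pow, hθ, e]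

/-- `r = v / u ∉ F` is fixed by `θ`. -/
theorem fix_two (θ : K ≃+* K) (hθ : ∀ l, θ (k.ι l) = k.ι l) {κ u v : K} (h : k.Ind u v)
    (hu : κ * θ u = u) (hv : κ * θ v = v) : κ = 1 ∧ ∀ x, θ x = x := by
  have u0 := h.ne
  have hκ : κ ≠ 0 := fun e => u0 (by rw [← hu, e, zero_mul])
  have e := k.eq_id_of_fix θ hθ h.div (by rw [map_div₀, ← mul_div_mul_left _ _ hκ, hu, hv])
  rw [e] at hu
  exact ⟨mul_right_cancel₀ u0 (hu.trans (one_mul u).symm), e⟩

omit [Finite F] [Finite K] in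
theorem root_of {r y : K} (h : y ^ 3 - k.ι (k.ℓ r) * y ^ 2 + k.ι (k.ℓ (k.sh r)) * y - k.ι (k.N r) = 0) :
    y = r ∨ y = k.φ r ∨ y = k.φ (k.φ r) := by
  have : (y - r) * ((y - k.φ r) * (y - k.φ (k.φ r))) = 0 := by
    simp only [k.ιℓ, k.ιN, CB.sh, map_mul, k.φ3] at h
    linear_combination h
  simpa only [mul_eq_zero, sub_eq_zero] using this

omit [Finite F] [Finite K] in
theorem exists_nmem : ∃ r, ∀ l, k.ι l ≠ r :=
  k.ne.imp fun _ h l e => h (by rw [← e, k.φι])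

/-- For `r ∉ F`, `θ r` is a root of `(X - r)(X - φ r)(X - φ² r)` (`cubic`); then `exists_basis`. -/
theorem gal3 (θ : K ≃+* K) (hθ : ∀ l, θ (k.ι l) = k.ι l) :
    (∀ x, θ x = x) ∨ (∀ x, θ x = k.φ x) ∨ ∀ x, θ x = k.φ (k.φ x) := by
  obtain ⟨r, hr⟩ := k.exists_nmem
  have h := congrArg θ (k.cubic r)
  simp only [map_add, map_sub, map_mul, map_pow, hθ, map_zero] at h
  refine (k.root_of h).imp (k.eq_id_of_fix θ hθ hr) (Or.imp (fun e x => ?_) fun e x => ?_) <;>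
    obtain ⟨a, b, c, rfl⟩ := k.exists_basis hr x <;> simp only [map_add, map_mul, map_pow, hθ, e, k.φι]

/-- The additive map `σ ↦ σ × s` is injective (`cr_eq_zero`). -/
theorem cr_surj (h2 : (2 : K) ≠ 0) {s : K} (hs : s ≠ 0) (u : K) : ∃ σ, k.cr σ s = u := by
  refine (Finite.injective_iff_surjective (f := fun σ => k.cr σ s)).1 (fun x y e => ?_) u
  have : k.cr s (x - y) = 0 := by rw [k.cr_sub, k.cr_comm, k.cr_comm s y]; exact sub_eq_zero.2 e
  exact sub_eq_zero.1 ((k.cr_eq_zero h2 this).resolve_left hs)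

/-- `s ↦ ℓ (s ·)` is an injection of `K` into the `F`-dual of `K`, which has `|K|` elements; or: on the basis
`1, r, r²` (`exists_basis`) compare with the injective, hence bijective, map `u ↦ (ℓ u, ℓ (u r), ℓ (u r²))`. -/
theorem exists_ℓ_of_lin (f : K →+ F) (h : ∀ a x, f (k.ι a * x) = a * f x) :
    ∃ u, ∀ x, f x = k.ℓ (u * x) := by
  obtain ⟨r, hr⟩ := k.exists_nmem
  have key : ∀ u x a b c, x = k.ι a * r ^ 2 + k.ι b * r + k.ι c →
      k.ℓ (u * x) = a * k.ℓ (u * r ^ 2) + b * k.ℓ (u * r) + c * k.ℓ (u * 1) := fun u x a b c e => by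
    rw [← k.ℓ_ι', ← k.ℓ_ι', ← k.ℓ_ι', ← k.ℓ_add, ← k.ℓ_add, e]; congr 1; ring
  have : Function.Bijective fun u : K => (k.ℓ (u * r ^ 2), k.ℓ (u * r), k.ℓ (u * 1)) := by
    refine (Nat.bijective_iff_injective_and_card _).2 ⟨fun v w e => k.eq_of_ℓ fun x => ?_,
      by simp only [Nat.card_prod, k.card]; ring⟩
    obtain ⟨a, b, c, hx⟩ := k.exists_basis hr x
    simp only [Prod.mk.injEq] at e
    rw [key v x a b c hx, key w x a b c hx, e.1, e.2.1, e.2.2]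
  obtain ⟨u, e⟩ := this.2 (f (r ^ 2), f r, f 1)
  simp only [Prod.mk.injEq] at e
  refine ⟨u, fun x => ?_⟩
  obtain ⟨a, b, c, hx⟩ := k.exists_basis hr x
  rw [key u x a b c hx, e.1, e.2.1, e.2.2, ← h, ← h, ← h, ← map_add, ← map_add, hx, mul_one]

/-- For `s ≠ 0`, `l ↦ Q (l s)` is additive `K → F`, so it kills some `l ≠ 0` (`card`), so `Q s = 0`. -/
theorem add_N_zero (Q : K →+ F) (h : ∀ l s, l ≠ 0 → Q (l * s) = k.N l * Q s) (s : K) : Q s = 0 := by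
  obtain ⟨u, v, e, n⟩ := k.not_inj (Nat.le_self_pow two_ne_zero _) fun l => Q (l * s)
  have h1 := h _ s (sub_ne_zero.2 n)
  rw [sub_mul, map_sub, e, sub_self] at h1
  exact (mul_eq_zero.1 h1.symm).resolve_left (k.N_ne (sub_ne_zero.2 n))

omit [Finite K] in
theorem three_le_of {a : F} (h0 : a ≠ 0) (h1 : a ≠ 1) : 3 ≤ Nat.card F := by
  classical
  have := Fintype.ofFinite F
  rw [Nat.card_eq_fintype_card]
  exact Fintype.two_lt_card_iff.2 ⟨a, 0, 1, h0, h1, zero_ne_one⟩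

omit [Finite K] in
theorem cases_of_card_two (h : Nat.card F = 2) (a : F) : a = 0 ∨ a = 1 := by
  by_contra! n
  have := three_le_of n.1 n.2
  omega

omit [Finite K] in
theorem exists_ne_of_card (h : Nat.card F ≠ 2) : ∃ a : F, a ≠ 0 ∧ a ≠ 1 := by
  by_contra! n
  exact h (Nat.card_eq_two_iff.2 ⟨0, 1, zero_ne_one, Set.eq_univ_of_forall fun a => or_iff_not_imp_left.2 (n a)⟩)

omit [Finite K] in
/-- An odd field has at least three elements (`0, 1, -1`). -/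
theorem three_le (h2 : (2 : F) ≠ 0) : 3 ≤ Nat.card F := by
  exact three_le_of (a := -1) (by simp) fun e => h2 (by linear_combination -e)

omit [Finite K] in
/-- `μ = 2`. -/
theorem exists_sq_ne (h2 : (2 : F) ≠ 0) (h3 : (3 : F) ≠ 0) : ∃ μ : F, μ ≠ 0 ∧ μ ^ 2 ≠ 1 := by
  exact ⟨2, h2, fun e => h3 (by linear_combination e)⟩

omit [Finite K] in
/-- Squaring is injective. -/
theorem exists_sq (h2 : (2 : F) = 0) (a : F) : ∃ l : F, l ^ 2 = a := by
  refine (Finite.injective_iff_surjective (f := fun l : F => l ^ 2)).1 (fun x y e => ?_) a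
  exact sub_eq_zero.1 (pow_eq_zero_iff two_ne_zero |>.1 (show (x - y) ^ 2 = 0 by
    linear_combination e + (y ^ 2 - x * y) * h2))

end Cfsg.Lib.FD.CB
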