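import Cfsg.Agent.Lib.FD.Alg2

/-!
# S5261: norm forms in the cubic extension.
-/

set_option autoImplicit false
set_option linter.unusedSectionVars false

namespace Cfsg.Lib.FD.CB

variable {F K : Type*} [Field F] [Field K] (k : CB F K) [Finite F] [Finite K]

/-- The norm on units. -/
def Nu : Kˣ →* Fˣ := Units.map ⟨⟨k.N, k.N_one⟩, k.N_mul⟩

theorem Nu_val (x : Kˣ) : (k.Nu x : F) = k.N x := rfl

/-- The norm `x ↦ x^(1+q+q²)` is onto: its kernel on `Kˣ` has at most `1+q+q²` elements (or use a generator of `Kˣ`,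
or `FiniteField.norm_surjective`). -/
theorem exists_N (a : F) : ∃ x, k.N x = a := by
  rcases eq_or_ne a 0 with rfl | ha
  · exact ⟨0, k.N_zero⟩
  have h1 : k.Nu.ker ≤ (powMonoidHom (1 + Nat.card F + Nat.card F ^ 2) : Kˣ →* Kˣ).ker := fun x hx =>
    Units.ext (by
      have := k.ιN x
      rw [← Nu_val, MonoidHom.mem_ker.1 hx, k.pw, k.pw, Units.val_one, map_one] at this
      rw [powMonoidHom_apply, Units.val_pow_eq_pow_val, Units.val_one, this]; ring)
  have h2 := (Subgroup.card_le_of_le h1).trans ((IsCyclic.card_powMonoidHom_ker Kˣ _).le.trans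
    (Nat.gcd_le_right _ (by omega)))
  have h3 := k.Nu.ker.card_mul_index
  rw [Subgroup.index_ker, Nat.card_units, k.card] at h3
  obtain ⟨n, hn⟩ : ∃ n, Nat.card F = n + 1 := ⟨Nat.card F - 1, (Nat.sub_add_cancel Nat.card_pos).symm⟩
  have h4 : k.Nu.range = ⊤ := Subgroup.eq_top_of_le_card _ (by
    rw [Nat.card_units, hn, Nat.add_sub_cancel]
    rw [hn] at h2 h3
    have e : (n + 1) ^ 3 - 1 = (1 + (n + 1) + (n + 1) ^ 2) * n := Nat.sub_eq_of_eq_add (by ring)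
    exact Nat.le_of_mul_le_mul_left (e.ge.trans (h3.ge.trans (Nat.mul_le_mul_right _ h2))) (by omega))
  obtain ⟨x, hx⟩ := h4.ge (Subgroup.mem_top (Units.mk0 a ha))
  exact ⟨x, congrArg Units.val hx⟩

/-- `x^# = y^#` gives `N x² = N y²` (`N_sh`), `N x = N y`, `x = y` (`sh_sh`). -/
theorem sh_bij (h2 : (2 : K) = 0) : Function.Bijective k.sh := by
  refine Finite.injective_iff_bijective.1 fun x y e => ?_
  have h1 : k.N x = k.N y := sub_eq_zero.1 (pow_eq_zero_iff two_ne_zero |>.1 (show (k.N x - k.N y) ^ 2 = 0 by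
    have := congrArg k.N e
    rw [N_sh, N_sh] at this
    linear_combination this + (k.N y ^ 2 - k.N x * k.N y) * k.two_iff.1 h2))
  have h3 := congrArg k.sh e
  rw [sh_sh, sh_sh, h1] at h3
  rcases eq_or_ne y 0 with rfl | hy
  · exact k.N_eq_zero.1 (h1.trans k.N_zero)
  · exact mul_left_cancel₀ (k.ι_ne (k.N_ne hy)) h3

/-- **Lemma R.**  Put `σ = l σ₀`: it suffices to find `σ₀` with `-ℓ (κ σ₀) / (c N σ₀)` a nonzero square.
Characteristic two: `exists_sq`.  Odd: let `χ = quadraticChar F`; otherwise `χ (ℓ (κ σ)) χ (N σ) = ε` is constant on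
`ℓ (κ σ) ≠ 0`; replacing `σ` by `σ / κ`, `χ (N σ) = ε' χ (ℓ σ)` whenever `ℓ σ ≠ 0`.  Take `r ∉ F` with `ℓ r ≠ 0` (if `ℓ`
vanishes outside `F` it vanishes, `l = (r + l) - r`) and, for `a ≠ 0`, `y` with `ℓ y = 1`, `ℓ (r y) = a`
(`Ind.exists_ℓ`): `ε' χ a = χ (N r) χ (N y) = χ (ℓ r)`, for squares and non-squares `a`
(`FiniteField.exists_nonsquare`), absurd. -/
theorem lemR {κ : K} (hκ : κ ≠ 0) {c : F} (hc : c ≠ 0) : ∃ σ ≠ 0, c * k.N σ + k.ℓ (κ * σ) = 0 := by
  suffices h : ∃ σ, ∃ l : F, k.ℓ (κ * σ) ≠ 0 ∧ l ^ 2 = -k.ℓ (κ * σ) / (c * k.N σ) by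
    obtain ⟨σ, l, h1, h2⟩ := h
    have h3 : σ ≠ 0 := fun e => h1 (by simp [e])
    have h4 := k.N_ne h3
    have h5 : l ≠ 0 := fun e => by
      rw [e, zero_pow two_ne_zero, eq_comm, div_eq_zero_iff, neg_eq_zero] at h2
      exact h2.elim h1 (mul_ne_zero hc h4)
    refine ⟨k.ι l * σ, mul_ne_zero (k.ι_ne h5) h3, ?_⟩
    rw [k.N_ι, k.ℓ_ι', eq_div_iff (mul_ne_zero hc h4)] at *
    linear_combination l * h2
  by_cases h2 : (2 : F) = 0
  · obtain ⟨σ, h⟩ := k.exists_ℓ hκ 1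
    obtain ⟨l, hl⟩ := exists_sq h2 (-k.ℓ (κ * σ) / (c * k.N σ))
    exact ⟨σ, l, h ▸ one_ne_zero, hl⟩
  classical
  have := Fintype.ofFinite F
  obtain ⟨n, hn⟩ := FiniteField.exists_nonsquare (F := F) fun e => h2 (by
    simpa [e] using ringChar.Nat.cast_ringChar (R := F))
  obtain ⟨r, hr⟩ := k.exists_nmem
  have r0 : r ≠ 0 := fun e => hr 0 (by simp [e])
  have n0 : n ≠ 0 := fun e => hn (e ▸ IsSquare.zero)
  obtain ⟨u, u1, u2⟩ := Ind.exists_ℓ k (k.ind_of hκ (y := r * κ) fun a e => hr a (mul_right_cancel₀ hκ e).symm) 1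
    (k.N r * n)
  have u0 : u ≠ 0 := fun e => by simp [e] at u1
  have h3 := k.N_ne u0
  have h4 := k.N_ne r0
  by_cases h : IsSquare (-1 / (c * k.N u))
  · obtain ⟨l, hl⟩ := h
    exact ⟨u, l, u1 ▸ one_ne_zero, by rw [u1, hl, sq]⟩
  · have h5 : IsSquare (-1 / (c * k.N u) * n) :=
      (quadraticChar_one_iff_isSquare (by simp [hc, h3, n0])).1 (by
        rw [map_mul, quadraticChar_neg_one_iff_not_isSquare.2 h, quadraticChar_neg_one_iff_not_isSquare.2 hn]
        norm_num)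
    obtain ⟨l, hl⟩ := h5
    rw [mul_comm r, mul_assoc] at u2
    refine ⟨r * u, l, u2 ▸ mul_ne_zero h4 n0, ?_⟩
    rw [u2, sq, ← hl, k.N_mul]
    field_simp

/-- An anisotropic binary form is universal.  With `u, v` from `exists_ind_perp (sh s)`, `Q σ = ℓ (s σ^#)`,
`Q (x u + y v) = A x² + B x y + C y²` (`sh_add`, `sh_ι`), `A ≠ 0`, and `D = 4 A C - B² ≠ 0` (else `(x, y) = (-B, 2 A)` is
isotropic); complete the square and use `FiniteField.exists_root_sum_quadratic`. -/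
theorem univ (h2 : (2 : K) ≠ 0) {s : K} (h : ∀ σ ≠ 0, k.ℓ (σ * k.sh s) = 0 → k.ℓ (s * k.sh σ) ≠ 0)
    (a : F) : ∃ σ, k.ℓ (σ * k.sh s) = 0 ∧ k.ℓ (s * k.sh σ) = a := by
  have h2' : (2 : F) ≠ 0 := k.two_iff.not.1 h2
  obtain ⟨u, v, i, hu, hv⟩ := k.exists_ind_perp (k.sh s)
  have e1 : ∀ x y, k.ℓ ((k.ι x * u + k.ι y * v) * k.sh s) = 0 := fun x y => by
    rw [mul_comm, mul_add, k.ℓ_add, k.ℓ_ι', k.ℓ_ι', hu, hv]; ring
  have e2 : ∀ x y, k.ℓ (s * k.sh (k.ι x * u + k.ι y * v)) =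
      x ^ 2 * k.ℓ (s * k.sh u) + x * y * k.ℓ (s * k.cr u v) + y ^ 2 * k.ℓ (s * k.sh v) := fun x y => by
    rw [k.sh_add, k.sh_ι, k.sh_ι, k.cr_ι, k.ι_cr, ← map_pow, ← map_pow, mul_add, mul_add, k.ℓ_add, k.ℓ_add, k.ℓ_ι',
      k.ℓ_ι', k.ℓ_ι', k.ℓ_ι']; ring
  have hA := h u i.ne (mul_comm u _ ▸ hu)
  generalize k.ℓ (s * k.sh u) = A at *
  generalize k.ℓ (s * k.cr u v) = B at *
  generalize k.ℓ (s * k.sh v) = C at *
  have hD : 4 * A * C - B ^ 2 ≠ 0 := fun e =>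
    h _ (fun e' => mul_ne_zero h2' hA (i (-B) (2 * A) e').2) (e1 _ _) (by rw [e2]; linear_combination A * e)
  have := Fintype.ofFinite F
  obtain ⟨X, y, e⟩ := FiniteField.exists_root_sum_quadratic (f := (Polynomial.X : Polynomial F) ^ 2)
    (g := Polynomial.C (4 * A * C - B ^ 2) * Polynomial.X ^ 2 - Polynomial.C (4 * A * a))
    (Polynomial.degree_X_pow 2) (by
      rw [Polynomial.degree_sub_C (by rw [Polynomial.degree_C_mul_X_pow _ hD]; norm_num),
        Polynomial.degree_C_mul_X_pow _ hD]; rfl)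
    (FiniteField.odd_card_of_char_ne_two fun e => h2' (by simpa [e] using ringChar.Nat.cast_ringChar (R := F)))
  simp only [Polynomial.eval_pow, Polynomial.eval_X, Polynomial.eval_sub, Polynomial.eval_mul,
    Polynomial.eval_C] at e
  refine ⟨_, e1 ((X - B * y) / (2 * A)) y, ?_⟩
  rw [e2]
  field_simp
  linear_combination e

/-- The endomorphism `(τ, μ) ↦ (τ² μ⁻¹, (N τ)⁻¹ μ²)` of `Kˣ × Fˣ` is injective: `τ² = μ`, `μ² = N τ` give
`μ⁴ = μ³`, `μ = 1`, `τ = ± 1`, `N τ = 1`, `τ = 1`. -/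
theorem t1t2 {l : K} {b : F} (hl : l ≠ 0) (hb : b ≠ 0) :
    ∃ (τ : K) (μ : F), τ ≠ 0 ∧ μ ≠ 0 ∧ τ ^ 2 * (k.ι μ)⁻¹ = l ∧ (k.N τ)⁻¹ * μ ^ 2 = b := by
  let Φ : Kˣ × Fˣ →* Kˣ × Fˣ := MonoidHom.mk'
    (fun x => (x.1 ^ 2 * (Units.map (k.ι : F →* K) x.2)⁻¹, (k.Nu x.1)⁻¹ * x.2 ^ 2)) fun x y => by
      simp only [Prod.fst_mul, Prod.snd_mul, map_mul, mul_pow, mul_inv, Prod.mk_mul_mk, mul_mul_mul_comm]
  have hi : Function.Injective Φ := (injective_iff_map_eq_one _).2 fun x e => by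
    have e1 : (x.1 : K) ^ 2 = k.ι x.2 := by
      simpa using congrArg Units.val (mul_inv_eq_one.1 (congrArg Prod.fst e))
    have e2 : k.N x.1 = (x.2 : F) ^ 2 := by
      simpa [Nu_val] using congrArg Units.val (inv_mul_eq_one.1 (congrArg Prod.snd e))
    have e3 := congrArg k.N e1
    rw [sq, k.N_mul, e2, k.N_ι1] at e3
    have e4 : (x.2 : F) = 1 := mul_left_cancel₀ (pow_ne_zero 3 x.2.ne_zero) (by linear_combination e3)
    rw [e4, map_one, sq_eq_one_iff] at e1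
    refine Prod.ext (Units.ext (e1.elim id fun e5 => ?_)) (Units.ext e4)
    rw [e5, e4, k.N_neg, k.N_one, one_pow] at e2
    rw [e5, ← map_one k.ι, ← map_neg, e2, map_one]
    rfl
  obtain ⟨x, e⟩ := Finite.injective_iff_surjective.1 hi (Units.mk0 l hl, Units.mk0 b hb)
  exact ⟨x.1, x.2, x.1.ne_zero, x.2.ne_zero, by simpa [Φ] using congrArg (fun t => (t.1 : K)) e,
    by simpa [Φ, Nu_val] using congrArg (fun t => (t.2 : F)) e⟩

/-- Automorphisms of `F` are maps `x ↦ x ^ p ^ j`, they extend. -/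
theorem exists_ext (η : F ≃+* F) : ∃ θ : K ≃+* K, ∀ a, θ (k.ι a) = k.ι (η a) := by
  obtain ⟨p, hp⟩ := CharP.exists K
  have : Fact p.Prime := ⟨CharP.char_is_prime K p⟩
  have := k.charP_F p
  have := Fintype.ofFinite F
  let := ZMod.algebra F p
  obtain ⟨n, hn⟩ := (FiniteField.bijective_frobeniusAlgEquivOfAlgebraic_pow (ZMod p) F).2
    (AlgEquiv.ofRingEquiv (f := η) fun x => by
      obtain ⟨m, rfl⟩ := ZMod.natCast_zmod_surjective x
      simp)
  refine ⟨RingEquiv.ofBijective (iterateFrobenius K p n)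
    (Finite.injective_iff_bijective.1 (RingHom.injective _)), fun a => ?_⟩
  have := DFunLike.congr_fun hn a
  rw [AlgEquiv.coe_pow, FiniteField.coe_frobeniusAlgEquivOfAlgebraic_iterate, ZMod.card] at this
  rw [RingEquiv.ofBijective_apply, iterateFrobenius_def, ← map_pow]
  exact congrArg _ this

theorem lin_id (h3 : 3 ≤ Nat.card F) {G : K → K} (add : ∀ x y, G (x + y) = G x + G y)
    (lin : ∀ a x, G (k.ι a * x) = k.ι a * G x) (one : G 1 = 1)
    (h : ∀ x, G x = x ∨ G x = k.φ x ∨ G x = k.φ (k.φ x)) {r : K} (hr : ∀ l, k.ι l ≠ r) (e : G r = r) (x : K) :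
    G x = x := by
  obtain ⟨n1, -, n3⟩ := k.φ_ne_of hr
  obtain ⟨a, a0, a1⟩ := exists_ne_of_card (F := F) (by omega)
  have i0 := k.ι_ne a0
  have i1 : k.ι a - 1 ≠ 0 := by rw [← map_one k.ι, ← map_sub]; exact k.ι_ne (sub_ne_zero.2 a1)
  have e2 : G (r ^ 2) = r ^ 2 := by
    by_contra n
    have h1 := h (r ^ 2 + r)
    have h2 := h (r ^ 2 + k.ι a * r)
    simp only [add, lin, e, map_add, map_mul, k.φι, add_left_inj, n, false_or] at h1 h2
    rcases (h (r ^ 2)).resolve_left n with e' | e' <;> rw [e'] at h1 h2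
    · exact mul_ne_zero i1 n3 (by
        linear_combination h2.resolve_left (fun t => mul_ne_zero i0 n1 (by linear_combination t)) -
          h1.resolve_left fun t => n1 (by linear_combination t))
    · exact mul_ne_zero i1 n1 (by
        linear_combination h2.resolve_right (fun t => mul_ne_zero i0 n3 (by linear_combination t)) -
          h1.resolve_right fun t => n3 (by linear_combination t))
  obtain ⟨a, b, c, rfl⟩ := k.exists_basis hr x
  rw [add, add, lin, lin, e, e2, ← mul_one (k.ι c), lin, one]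

theorem lin_gal (h3 : 3 ≤ Nat.card F) {G : K → K} (add : ∀ x y, G (x + y) = G x + G y)
    (lin : ∀ a x, G (k.ι a * x) = k.ι a * G x) (one : G 1 = 1)
    (h : ∀ x, G x = x ∨ G x = k.φ x ∨ G x = k.φ (k.φ x)) :
    (∀ x, G x = x) ∨ (∀ x, G x = k.φ x) ∨ ∀ x, G x = k.φ (k.φ x) := by
  obtain ⟨r, hr⟩ := k.exists_nmem
  refine (h r).imp (k.lin_id h3 add lin one h hr) (Or.imp (fun e x => ?_) fun e x => ?_)
  · rw [← k.φ3 (G x), k.lin_id h3 (G := fun x => k.φ (k.φ (G x))) (by simp [add]) (by simp [lin, k.φι])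
      (by simp [one]) (fun x => by rcases h x with e | e | e <;> simp [e, k.φ3]) hr (by rw [e, k.φ3]) x]
  · rw [← k.φ3 (G x), k.lin_id h3 (G := fun x => k.φ (G x)) (by simp [add]) (by simp [lin, k.φι])
      (by simp [one]) (fun x => by rcases h x with e | e | e <;> simp [e, k.φ3]) hr (by rw [e, k.φ3]) x]

/-- `φ` as an automorphism. -/
def φe : K ≃+* K := RingEquiv.ofRingHom k.φ (k.φ.comp k.φ) (RingHom.ext k.φ3) (RingHom.ext k.φ3)

/-- Semilinear norm similarities.  With `θ₀` from `exists_ext`, `A' = (A 1)⁻¹ A θ₀⁻¹` is `F`-linear, `A' 1 = 1`,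
`N (A' x) = N x`.  From `N (l - A' x) = N (l - x)` for `l = 0` and two values `l ≠ 0` (`N_add`), `ℓ` and `ℓ ∘ sh` agree on
`x` and `A' x`, so (`cubic`) `A' x ∈ {x, φ x, φ² x}`.  Each `ker (A' - φ^i)` is an `F`-subspace containing `F`; if all are
proper they have at most `q²` elements and cover at most `3 q² - 2 q < q³` elements.  (Or: fix `r ∉ F`, compose with a power of
`φ` so that `A' r = r`, and look at `A' (r² + l r)`.) -/
theorem norm_aut (h3 : 3 ≤ Nat.card F) (A : K ≃+ K) (η : F ≃+* F) (m : F)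
    (h1 : ∀ a x, A (k.ι a * x) = k.ι (η a) * A x) (h2 : ∀ x, k.N (A x) = m * η (k.N x)) :
    ∃ θ : K ≃+* K, (∀ a, θ (k.ι a) = k.ι (η a)) ∧ ∀ x, A x = A 1 * θ x := by
  obtain ⟨θ, hθ⟩ := k.exists_ext η
  have A0 : A 1 ≠ 0 := fun e => one_ne_zero (A.injective (e.trans (map_zero A).symm))
  have hm : k.N (A 1) = m := by rw [h2, k.N_one, map_one, mul_one]
  have m0 : m ≠ 0 := hm ▸ k.N_ne A0
  have θN : ∀ y, η (k.N y) = k.N (θ y) := fun y => k.inj (by
    have := k.θφ θ.toRingHom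
    simp only [RingEquiv.toRingHom_eq_coe, RingHom.coe_coe] at this
    rw [← hθ, k.ιN, k.ιN, map_mul, map_mul, this, this, this])
  let G : K → K := fun x => (A 1)⁻¹ * A (θ.symm x)
  have add : ∀ x y, G (x + y) = G x + G y := fun x y => by simp only [G, map_add, mul_add]
  have lin : ∀ a x, G (k.ι a * x) = k.ι a * G x := fun a x => by
    obtain ⟨a, rfl⟩ := η.surjective a
    simp only [G]
    rw [map_mul, ← hθ, θ.symm_apply_apply, h1, hθ, mul_left_comm]
  have one : G 1 = 1 := by simp only [G, map_one, inv_mul_cancel₀ A0]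
  have nm : ∀ x, k.N (G x) = k.N x := fun x => by
    simp only [G]
    rw [k.N_mul, k.N_inv, hm, h2, θN, θ.apply_symm_apply, inv_mul_cancel_left₀ m0]
  obtain ⟨a, a0, a1⟩ := exists_ne_of_card (F := F) (by omega)
  have h : ∀ x, G x = x ∨ G x = k.φ x ∨ G x = k.φ (k.φ x) := fun x => by
    have key : ∀ l, l ^ 2 * k.ℓ (G x) + l * k.ℓ (k.sh (G x)) = l ^ 2 * k.ℓ x + l * k.ℓ (k.sh x) := fun l => by
      have := nm (k.ι l * 1 + x)
      rw [add, lin, one, mul_one, k.N_add, k.N_add, nm, k.sh_ι1, ← map_pow, mul_comm (G x), mul_comm x, k.ℓ_ι,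
        k.ℓ_ι, k.ℓ_ι, k.ℓ_ι] at this
      linear_combination this
    have e1 : k.ℓ (G x) = k.ℓ x := mul_left_cancel₀ (mul_ne_zero a0 (sub_ne_zero.2 a1))
      (by linear_combination key a - a * key 1)
    have e2 : k.ℓ (k.sh (G x)) = k.ℓ (k.sh x) := by linear_combination key 1 - e1
    exact k.root_of (by rw [← e1, ← e2, ← nm x]; exact k.cubic _)
  have fin : ∀ ψ : K ≃+* K, (∀ a, ψ (k.ι a) = k.ι a) → (∀ x, G x = ψ x) →
      ∃ θ : K ≃+* K, (∀ a, θ (k.ι a) = k.ι (η a)) ∧ ∀ x, A x = A 1 * θ x := fun ψ a b =>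
    ⟨θ.trans ψ, fun x => by rw [RingEquiv.trans_apply, hθ, a], fun x => by
      rw [RingEquiv.trans_apply, ← b]
      simp only [G]
      rw [θ.symm_apply_apply, mul_inv_cancel_left₀ A0]⟩
  rcases k.lin_gal h3 add lin one h with e | e | e
  · exact fin (.refl K) (fun _ => rfl) e
  · exact fin k.φe k.φι e
  · exact fin (k.φe.trans k.φe) (fun a => (congrArg k.φ (k.φι a)).trans (k.φι a)) e

end Cfsg.Lib.FD.CB
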