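import Cfsg.Agent.Lib.FD.U

/-!
# S5261: diagonal-field automorphisms `Par.fn` of `U`, the module `V = Q1 / Z1`.
-/

set_option autoImplicit false

namespace Cfsg.Lib.FD

open Subgroup U

variable {F K : Type*} [Field F] [Field K] {k : CB F K}

theorem CB.exists_res (k : CB F K) (θ : K ≃+* K) : ∃ η : F ≃+* F, ∀ x, θ (k.ι x) = k.ι (η x) := by
  have h : ∀ (θ : K ≃+* K) x, ∃ y, k.ι y = θ (k.ι x) := fun θ x =>
    k.fix _ (by rw [← RingEquiv.coe_toRingHom, ← k.θφ, k.φι])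
  choose f hf using h
  exact ⟨⟨⟨f θ, f θ.symm, fun x => k.inj (by simp [hf]), fun x => k.inj (by simp [hf])⟩,
    fun x y => k.inj (by simp [hf]), fun x y => k.inj (by simp [hf])⟩, fun x => (hf θ x).symm⟩

/-- Parameters `(λ, β, θ)` of a diagonal-field automorphism. -/
structure Par (k : CB F K) where
  l : K
  b : F
  θ : K ≃+* K
  η : F ≃+* F
  l0 : l ≠ 0
  b0 : b ≠ 0
  θι : ∀ x, θ (k.ι x) = k.ι (η x)

namespace Par

variable (d e : Par k)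

theorem θφ (x : K) : d.θ (k.φ x) = k.φ (d.θ x) := k.θφ d.θ.toRingHom x
theorem φθι (x : F) : k.φ (d.θ (k.ι x)) = d.θ (k.ι x) := by rw [← θφ, k.φι]
theorem θℓ (x : K) : k.ℓ (d.θ x) = d.η (k.ℓ x) := k.inj (by rw [← d.θι]; simp [k.ιℓ, θφ])
theorem θN (x : K) : k.N (d.θ x) = d.η (k.N x) := k.inj (by rw [← d.θι]; simp [k.ιN, θφ])
theorem θsh (x : K) : k.sh (d.θ x) = d.θ (k.sh x) := by simp [CB.sh, θφ]
theorem θcr (x y : K) : k.cr (d.θ x) (d.θ y) = d.θ (k.cr x y) := by simp [CB.cr, θφ]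

/-- The automorphism as a map. -/
def fn (a : U k) : U k := ⟨d.l * d.θ a.σ, d.b * d.η a.t, d.l * k.ι d.b * d.θ a.s,
  k.sh d.l * k.ι d.b * d.θ a.u, k.N d.l * d.b * d.η a.c, k.N d.l * d.b ^ 2 * d.η a.z⟩

@[simp] theorem fn_σ (a : U k) : (d.fn a).σ = d.l * d.θ a.σ := rfl
@[simp] theorem fn_t (a : U k) : (d.fn a).t = d.b * d.η a.t := rfl
@[simp] theorem fn_s (a : U k) : (d.fn a).s = d.l * k.ι d.b * d.θ a.s := rfl
@[simp] theorem fn_u (a : U k) : (d.fn a).u = k.sh d.l * k.ι d.b * d.θ a.u := rfl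
@[simp] theorem fn_c (a : U k) : (d.fn a).c = k.N d.l * d.b * d.η a.c := rfl
@[simp] theorem fn_z (a : U k) : (d.fn a).z = k.N d.l * d.b ^ 2 * d.η a.z := rfl

/-- Diagonal automorphism. -/
def lin (k : CB F K) {l : K} {b : F} (hl : l ≠ 0) (hb : b ≠ 0) : Par k :=
  ⟨l, b, .refl K, .refl F, hl, hb, fun _ => rfl⟩
/-- Identity. -/
def one (k : CB F K) : Par k := lin k one_ne_zero one_ne_zero
/-- Product. -/
def mul : Par k := ⟨d.l * d.θ e.l, d.b * d.η e.b, d.θ * e.θ, d.η * e.η,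
  mul_ne_zero d.l0 ((map_ne_zero _).2 e.l0), mul_ne_zero d.b0 ((map_ne_zero _).2 e.b0),
  fun x => (congrArg d.θ (e.θι x)).trans (d.θι _)⟩
/-- Inverse. -/
def inv : Par k := ⟨d.θ.symm d.l⁻¹, d.η.symm d.b⁻¹, d.θ⁻¹, d.η⁻¹,
  (map_ne_zero _).2 (inv_ne_zero d.l0), (map_ne_zero _).2 (inv_ne_zero d.b0),
  fun x => d.θ.injective (by
    rw [d.θι]
    exact (d.θ.apply_symm_apply _).trans (congrArg k.ι (d.η.apply_symm_apply x).symm))⟩

theorem mul_θ (x : K) : (d.mul e).θ x = d.θ (e.θ x) := rfl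
theorem mul_η (x : F) : (d.mul e).η x = d.η (e.η x) := rfl
theorem inv_θ (x : K) : d.inv.θ x = d.θ.symm x := rfl
theorem inv_η (x : F) : d.inv.η x = d.η.symm x := rfl

@[simp] theorem fn_one (a : U k) : (one k).fn a = a := by ext <;> simp [one, lin]
theorem fn_mul (a : U k) : (d.mul e).fn a = d.fn (e.fn a) := by
  ext <;> simp only [fn_σ, fn_t, fn_s, fn_u, fn_c, fn_z, mul_θ, mul_η] <;>
    simp only [mul, map_mul, map_pow, k.sh_mul, k.N_mul, θι, θsh, θN] <;> ring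
theorem fn_inv (a : U k) : d.fn (d.inv.fn a) = a := by
  have h1 := d.l0
  have h2 := d.b0
  have h3 := k.N_ne h1
  have h4 := k.sh_ne h1
  have h5 := k.ι_ne h2
  ext <;> simp only [fn_σ, fn_t, fn_s, fn_u, fn_c, fn_z, inv_θ, inv_η] <;>
    simp only [inv, map_mul, map_pow, θι, ← θsh, ← θN, RingEquiv.apply_symm_apply, k.sh_inv,
      k.N_inv, map_inv₀] <;> field_simp
theorem fn_injective : Function.Injective d.fn := fun a a' h => by
  have h1 := d.l0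
  have h2 := d.b0
  have h3 := k.N_ne h1
  have h4 := k.sh_ne h1
  have h5 := k.ι_ne h2
  simp only [U.ext_iff, fn_σ, fn_t, fn_s, fn_u, fn_c, fn_z] at h
  ext <;> simp_all
theorem inv_fn (a : U k) : d.inv.fn (d.fn a) = a := d.fn_injective (d.fn_inv _)
theorem fn_map_mul (a b : U k) : d.fn (a * b) = d.fn a * d.fn b := by
  refine ext' ?_ ?_ ?_ ?_ ?_ ?_ <;>
    simp only [fn_σ, fn_t, fn_s, fn_u, fn_c, fn_z, mul_σ, mul_t, mul_s, mul_u, mul_c, mul_z, map_add,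
      map_sub, map_mul, map_pow, ← θι, k.ιℓ, k.ιN, CB.sh, CB.cr, k.φ3, k.φι, θφ, φθι] <;> ring

/-- The automorphism. -/
def aut : MulAut (U k) := ⟨⟨d.fn, d.inv.fn, d.inv_fn, d.fn_inv⟩, d.fn_map_mul⟩
@[simp] theorem aut_apply (a : U k) : d.aut a = d.fn a := rfl

end Par

/-- `f` acts on `U / H` like `d`. -/
def Lv (f : U k → U k) (d : Par k) : Prop :=
  ∀ a, (f a).σ = d.l * d.θ a.σ ∧ (f a).t = d.b * d.η a.t

/-- `V = Q1 / Z1`, coordinates `(t, s, u, c)`. -/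
abbrev V (F K : Type*) := F × K × K × F

/-- The projection. -/
def U.π (a : U k) : V F K := (a.t, a.s, a.u, a.c)
/-- A section. -/
def U.sec (k : CB F K) (v : V F K) : U k := ⟨0, v.1, v.2.1, v.2.2.1, v.2.2.2, 0⟩
theorem U.π_sec (v : V F K) : (U.sec k v).π = v := rfl
theorem U.sec_mem (v : V F K) : U.sec k v ∈ Q1 k := rfl
theorem U.π_mul {a : U k} (h : a ∈ Q1 k) (b : U k) : (a * b).π = a.π + b.π := by
  simp [U.π, mul_s, mul_u, mul_c, mem_Q1.1 h]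
theorem U.π_eq_zero {a : U k} (h : a ∈ Q1 k) : a.π = 0 ↔ a ∈ Z1 k := by
  simp [U.π, mem_Z1, mem_Q1.1 h]

namespace CB
variable (k)

/-- Scalar multiplication on `V`. -/
def sm (a : F) (v : V F K) : V F K := (a * v.1, k.ι a * v.2.1, k.ι a * v.2.2.1, a * v.2.2.2)
/-- The symplectic form on `V`. -/
def om (v w : V F K) : F :=
  v.1 * w.2.2.2 - w.1 * v.2.2.2 - k.ℓ (v.2.1 * w.2.2.1) + k.ℓ (w.2.1 * v.2.2.1)
/-- The quadratic form on `V` (characteristic two). -/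
def qf (v : V F K) : F := v.1 * v.2.2.2 + k.ℓ (v.2.1 * v.2.2.1)
/-- The action of `x3 σ` on `V`. -/
def tf (σ : K) (v : V F K) : V F K := (v.1, v.2.1 + k.ι v.1 * σ,
  v.2.2.1 + k.ι v.1 * k.sh σ + k.cr σ v.2.1,
  v.2.2.2 + v.1 * k.N σ + k.ℓ (v.2.1 * k.sh σ) + k.ℓ (σ * v.2.2.1))

theorem π_conj (a : U k) {b : U k} (h : b ∈ Q1 k) : (a * b * a⁻¹).π = k.tf a.σ b.π := by
  simp only [U.π, tf, cj_t, cj_s_Q1 a h, cj_u_Q1 a h, cj_c_Q1 a h]
theorem tf_zero (v : V F K) : k.tf 0 v = v := by simp [tf]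
theorem tf_add (σ τ : K) (v : V F K) : k.tf (σ + τ) v = k.tf σ (k.tf τ v) := by
  have h1 := k.π_conj (x3 k σ * x3 k τ) (U.sec_mem v)
  have h2 := k.π_conj (x3 k τ) (U.sec_mem v)
  have h3 := k.π_conj (x3 k σ) ((Q1_normal (k := k)).conj_mem _ (U.sec_mem v) (x3 k τ))
  rw [h2] at h3
  exact h1.symm.trans ((congrArg U.π (by group)).trans h3)
theorem ω_eq (a b : U k) : a.ω b = k.om a.π b.π := rfl

/-- The action of `x3 σ` on `V`. -/
def tau (σ : K) : Equiv.Perm (V F K) := ⟨k.tf σ, k.tf (-σ),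
  fun v => by rw [← tf_add, neg_add_cancel, tf_zero], fun v => by rw [← tf_add, add_neg_cancel, tf_zero]⟩
theorem tau_apply (σ : K) (v : V F K) : k.tau σ v = k.tf σ v := rfl
theorem tau_zero : k.tau 0 = 1 := Equiv.ext k.tf_zero
theorem tau_add (σ τ : K) : k.tau (σ + τ) = k.tau σ * k.tau τ := Equiv.ext (k.tf_add σ τ)
theorem tau_neg (σ : K) : k.tau (-σ) = (k.tau σ)⁻¹ := Equiv.ext fun _ => rfl
theorem tau_inj {σ τ : K} (h : k.tau σ = k.tau τ) : σ = τ := by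
  simpa [tau_apply, tf] using congrArg (fun g : Equiv.Perm (V F K) => (g (1, 0, 0, 0)).2.1) h

/-- The group `T` of all `tau σ`. -/
def T : Subgroup (Equiv.Perm (V F K)) where
  carrier := Set.range k.tau
  one_mem' := ⟨0, k.tau_zero⟩
  mul_mem' := by rintro _ _ ⟨σ, rfl⟩ ⟨τ, rfl⟩; exact ⟨_, k.tau_add σ τ⟩
  inv_mem' := by rintro _ ⟨σ, rfl⟩; exact ⟨_, k.tau_neg σ⟩
theorem mem_T {g : Equiv.Perm (V F K)} : g ∈ k.T ↔ ∃ σ, k.tau σ = g := Iff.rfl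

/-- The reflection on `V`. -/
def nu : Equiv.Perm (V F K) := ⟨fun v => (-v.2.2.2, v.2.2.1, -v.2.1, v.1),
  fun v => (v.2.2.2, -v.2.2.1, v.2.1, -v.1), fun v => by simp, fun v => by simp⟩
theorem nu_apply (v : V F K) : nu v = (-v.2.2.2, v.2.2.1, -v.2.1, v.1) := rfl
theorem nu_inv_apply (v : V F K) : nu⁻¹ v = (v.2.2.2, -v.2.2.1, v.2.1, -v.1) := rfl

end CB

theorem Par.sec_π (d : Par k) (v : V F K) : U.sec k (d.fn (U.sec k v)).π = d.fn (U.sec k v) := by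
  ext <;> simp [U.sec, U.π]
/-- The action of a diagonal-field automorphism on `V`. -/
def Par.dV (d : Par k) : Equiv.Perm (V F K) := ⟨fun v => (d.fn (U.sec k v)).π,
  fun v => (d.inv.fn (U.sec k v)).π, fun v => by simp only [d.sec_π, d.inv_fn, U.π_sec],
  fun v => by simp only [d.inv.sec_π, d.fn_inv, U.π_sec]⟩
theorem Par.dV_apply (d : Par k) (v : V F K) : d.dV v = (d.b * d.η v.1, d.l * k.ι d.b * d.θ v.2.1,
    k.sh d.l * k.ι d.b * d.θ v.2.2.1, k.N d.l * d.b * d.η v.2.2.2) := rfl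
theorem Par.π_fn (d : Par k) (a : U k) : (d.fn a).π = d.dV a.π := rfl
theorem Par.dV_mul (d e : Par k) : (d.mul e).dV = d.dV * e.dV :=
  Equiv.ext fun v => congrArg U.π ((d.fn_mul e (U.sec k v)).trans (congrArg d.fn (e.sec_π v).symm))
theorem Par.dV_inv (d : Par k) : d.inv.dV = d.dV⁻¹ := Equiv.ext fun _ => rfl
theorem Par.dV_one : (Par.one k).dV = 1 := Equiv.ext fun v => congrArg U.π (Par.fn_one (U.sec k v))

/-- The hypotheses on `L = Out_F(Q1)` acting on `V`. -/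
structure LH (k : CB F K) (p : ℕ) (L : Subgroup (Equiv.Perm (V F K))) : Prop where
  add : ∀ g ∈ L, ∀ v w, g (v + w) = g v + g w
  le : k.T ≤ L
  syl : ¬ p ∣ k.T.relIndex L
  ti : ∀ g ∈ L, ∀ σ ≠ 0, g * k.tau σ * g⁻¹ ∈ k.T → g ∈ normalizer (k.T : Set (Equiv.Perm (V F K)))
  nrm : ∀ g ∈ L, g ∈ normalizer (k.T : Set (Equiv.Perm (V F K))) → ∃ σ, ∃ d : Par k, g = k.tau σ * d.dV
  nn : ¬ L ≤ normalizer (k.T : Set (Equiv.Perm (V F K)))
  semi : ∀ g ∈ L, ∃ χ : F ≃+ F, (∀ v w, k.om (g v) (g w) = χ (k.om v w)) ∧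
    ((2 : K) = 0 → ∀ v, k.qf (g v) = χ (k.qf v))
  rig : ∀ g ∈ L, ∀ u c c', g (0, 0, u, c) = (0, 0, 0, c') → u = 0
  t2 : ∀ μ : F, ∀ h : μ ≠ 0, (Par.lin k (inv_ne_zero (k.ι_ne h)) (pow_ne_zero 2 h)).dV ∈ L
  c7 : Nat.card F = 2 → ∀ l : K, ∀ h : l ≠ 0, (Par.lin k h one_ne_zero).dV ∈ L
  tr : (2 : K) = 0 → ∀ σ ≠ 0, ∀ τ ≠ 0, ∃ d : Par k, d.dV ∈ L ∧ d.l * d.θ σ = τ

end Cfsg.Lib.FD
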