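import Cfsg.Agent.Lib.FD.Dg

/-!
# S5261: identities in the module `V`.
-/

set_option autoImplicit false

namespace Cfsg.Lib.FD

open Subgroup U

variable {F K : Type*} [Field F] [Field K] {k : CB F K}

theorem V.ext' (k : CB F K) {v w : V F K} (h1 : k.ι v.1 = k.ι w.1) (h2 : v.2.1 = w.2.1)
    (h3 : v.2.2.1 = w.2.2.1) (h4 : k.ι v.2.2.2 = k.ι w.2.2.2) : v = w :=
  Prod.ext (k.inj h1) (Prod.ext h2 (Prod.ext h3 (k.inj h4)))

namespace CB
variable (k)

theorem tf_add' (σ : K) (v w : V F K) : k.tf σ (v + w) = k.tf σ v + k.tf σ w := by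
  refine V.ext' k ?_ ?_ ?_ ?_ <;>
    simp only [tf, Prod.fst_add, Prod.snd_add, map_add, map_mul, k.ιℓ, k.ιN, sh, cr, k.φ3, k.φι] <;> ring
theorem tf_sm (σ : K) (a : F) (v : V F K) : k.tf σ (k.sm a v) = k.sm a (k.tf σ v) := by
  refine V.ext' k ?_ ?_ ?_ ?_ <;>
    simp only [tf, sm, map_add, map_mul, k.ιℓ, k.ιN, sh, cr, k.φ3, k.φι] <;> ring
theorem om_tf (σ : K) (v w : V F K) : k.om (k.tf σ v) (k.tf σ w) = k.om v w := k.inj (by
  simp only [tf, om, map_add, map_sub, map_mul, k.ιℓ, k.ιN, sh, cr, k.φ3, k.φι]; ring)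
theorem om_self_tf (σ : K) (v : V F K) : k.om v (k.tf σ v) =
    v.1 ^ 2 * k.N σ + 2 * v.1 * k.ℓ (σ * v.2.2.1) - 2 * k.ℓ (σ * k.sh v.2.1) := k.inj (by
  simp only [tf, om, map_add, map_sub, map_mul, map_pow, map_ofNat, k.ιℓ, k.ιN, sh, cr, k.φ3, k.φι]; ring)
theorem om_add (v v' w : V F K) : k.om (v + v') w = k.om v w + k.om v' w := by
  simp only [om, Prod.fst_add, Prod.snd_add, add_mul, mul_add, k.ℓ_add]; ring
theorem add_om (v w w' : V F K) : k.om v (w + w') = k.om v w + k.om v w' := by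
  simp only [om, Prod.fst_add, Prod.snd_add, add_mul, mul_add, k.ℓ_add]; ring
theorem om_sm (a : F) (v w : V F K) : k.om (k.sm a v) w = a * k.om v w := by
  simp only [om, sm, k.ℓ_ι', k.ℓ_ι'']; ring
theorem sm_om (a : F) (v w : V F K) : k.om v (k.sm a w) = a * k.om v w := by
  simp only [om, sm, k.ℓ_ι', k.ℓ_ι'']; ring
theorem om_swap (v w : V F K) : k.om w v = -k.om v w := by simp only [om]; ring
theorem om_self (v : V F K) : k.om v v = 0 := by simp only [om]; ring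
theorem eq_zero_of_om {v : V F K} (h : ∀ w, k.om v w = 0) : v = 0 := by
  refine Prod.ext ?_ (Prod.ext (k.eq_zero_of_ℓ fun u => ?_) (Prod.ext (k.eq_zero_of_ℓ fun s => ?_) ?_))
  · simpa [om] using h (0, 0, 0, 1)
  · simpa [om] using h (0, 0, u, 0)
  · simpa [om, mul_comm] using h (0, s, 0, 0)
  · simpa [om] using h (1, 0, 0, 0)
theorem om_nu (v w : V F K) : k.om (nu v) (nu w) = k.om v w := by
  simp only [om, nu_apply, mul_neg, neg_mul, k.ℓ_neg, mul_comm]; ring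

theorem dV_tau (d : Par k) (σ : K) : d.dV * k.tau σ * d.dV⁻¹ = k.tau (d.l * d.θ σ) := by
  rw [mul_inv_eq_iff_eq_mul]
  refine Equiv.ext fun v => V.ext' k ?_ ?_ ?_ ?_ <;>
    simp only [Equiv.Perm.mul_apply, tau_apply, Par.dV_apply, tf, map_add, map_mul, ← d.θι, k.ιℓ, k.ιN,
      sh, cr, k.φ3, k.φι, d.θφ, d.φθι] <;> ring

theorem nu_dV {l : K} {b : F} (hl : l ≠ 0) (hb : b ≠ 0) : nu * (Par.lin k hl hb).dV * nu⁻¹ =
    (Par.lin k (inv_ne_zero hl) (mul_ne_zero (k.N_ne hl) hb)).dV := by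
  have h1 := k.φ_ne hl
  have h2 := k.φ_ne h1
  rw [mul_inv_eq_iff_eq_mul]
  refine Equiv.ext fun v => V.ext' k ?_ ?_ ?_ ?_ <;>
    simp only [Equiv.Perm.mul_apply, nu_apply, Par.dV_apply, Par.lin, RingEquiv.refl_apply, map_neg,
      map_mul, map_inv₀, k.ιN, sh] <;> field_simp

theorem nu_tau {τ : K} (h : τ ≠ 0) : k.tau τ * (nu * k.tau τ⁻¹ * nu⁻¹) * k.tau τ =
    (Par.lin k (pow_ne_zero 2 h) (inv_ne_zero (k.N_ne h))).dV * nu := by
  have h1 := k.φ_ne h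
  have h2 := k.φ_ne h1
  refine Equiv.ext fun v => V.ext' k ?_ ?_ ?_ ?_ <;>
    simp only [Equiv.Perm.mul_apply, nu_apply, nu_inv_apply, tau_apply, tf, Par.dV_apply, Par.lin,
      RingEquiv.refl_apply, map_neg, map_add, map_mul, map_pow, map_inv₀, k.ιN, k.ιℓ, sh, cr, k.φ3,
      k.φι] <;> field_simp <;> ring

end CB

end Cfsg.Lib.FD
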