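import Cfsg.Agent.Lib.FD.Nu

/-!
# S5261: similarities of the symplectic form on `V` are semilinear.
-/

set_option autoImplicit false

namespace Cfsg.Lib.FD.CB

variable {F K : Type*} [Field F] [Field K] (k : CB F K)

/-- For `a : F` let `A = g (a ·) g⁻¹`, `ψ = χ (a ·) χ⁻¹`: `om (A v) w = ψ (om v w)`.  The left side is `F`-linear in `w` and
`om (1,0,0,0) ·` is onto, so `ψ` is `F`-linear, `ψ = η a`, and `A = η a` (`eq_zero_of_om`).  `η` is additive, multiplicative,
`η a = χ a / χ 1`, bijective. -/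
theorem semilin {g : Equiv.Perm (V F K)} (hg : ∀ v w, g (v + w) = g v + g w) (χ : F ≃+ F)
    (h : ∀ v w, k.om (g v) (g w) = χ (k.om v w)) :
    ∃ η : F ≃+* F, ∃ m : F, m ≠ 0 ∧ (∀ a v, g (k.sm a v) = k.sm (η a) (g v)) ∧ ∀ x, χ x = m * η x := by
  have m0 : χ 1 ≠ 0 := fun e => one_ne_zero (χ.injective (e.trans (map_zero χ).symm))
  have k1 : ∀ a y, χ (a * y) = (g (k.sm a (g.symm (1, 0, 0, 0)))).1 * χ y := fun a y => by
    have e1 := h (g.symm (1, 0, 0, 0)) (g.symm (0, 0, 0, χ y))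
    have e2 := h (k.sm a (g.symm (1, 0, 0, 0))) (g.symm (0, 0, 0, χ y))
    rw [g.apply_symm_apply] at e2
    rw [g.apply_symm_apply, g.apply_symm_apply] at e1
    have e3 : k.om (1, 0, 0, 0) (0, 0, 0, χ y) = χ y := by simp [om]
    rw [k.om_sm, ← χ.injective (e3.symm.trans e1)] at e2
    simpa [om] using e2.symm
  have k2 : ∀ a y, χ (a * y) = χ a / χ 1 * χ y := fun a y => by
    have := k1 a 1
    rw [mul_one] at this
    rw [k1, this, mul_div_cancel_right₀ _ m0]
  refine ⟨⟨⟨fun a => χ a / χ 1, fun x => χ.symm (x * χ 1), fun a => by simp [m0], fun a => by simp [m0]⟩,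
    fun a b => by simp only [Equiv.coe_fn_mk]; rw [k2, mul_div_assoc], fun a b => by simp [add_div]⟩, χ 1, m0,
    fun a v => sub_eq_zero.1 (k.eq_zero_of_om fun w => ?_), fun x => (mul_div_cancel₀ _ m0).symm⟩
  obtain ⟨w, rfl⟩ := g.surjective w
  have := k.om_add (g (k.sm a v) - k.sm (χ a / χ 1) (g v)) (k.sm (χ a / χ 1) (g v)) (g w)
  rw [sub_add_cancel, k.om_sm, h, h, k.om_sm, k2] at this
  exact (add_eq_right.1 this.symm)

end Cfsg.Lib.FD.CB
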