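import Cfsg.Agent.Lib.FD.Alg

/-!
# S5261: the Sylow `p`-subgroup `U` of `³D₄(q)` in coordinates,
`⟨σ, t, s, u, c, z⟩ = x₁₀(t) x₁₁(-s) x₁(u) x₂(c) x₀(z) · x₃(σ)`.
Characteristic subgroups `Z1 < Z2 < W < H = Q1 ⊓ Q2 < Q1, Q2`.
-/

set_option autoImplicit false

namespace Cfsg.Lib.FD

open Subgroup
open scoped commutatorElement

variable {F K : Type*} [Field F] [Field K]

/-- The group. -/
@[ext] structure U (k : CB F K) where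
  σ : K
  t : F
  s : K
  u : K
  c : F
  z : F

namespace U

variable {k : CB F K} (a b : U k)

instance instOne : One (U k) := ⟨⟨0, 0, 0, 0, 0, 0⟩⟩
instance instMul : Mul (U k) := ⟨fun a b => ⟨a.σ + b.σ, a.t + b.t, a.s + b.s + k.ι b.t * a.σ,
  a.u + b.u + k.ι b.t * k.sh a.σ + k.cr a.σ b.s,
  a.c + b.c + b.t * k.N a.σ + k.ℓ (b.s * k.sh a.σ) + k.ℓ (a.σ * b.u),
  a.z + b.z + b.t ^ 2 * k.N a.σ + k.ℓ (a.σ * k.sh b.s) + b.t * k.ℓ (b.s * k.sh a.σ) +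
    k.ℓ ((b.s + k.ι b.t * a.σ) * a.u) - b.t * a.c⟩⟩
instance instInv : Inv (U k) := ⟨fun a => ⟨-a.σ, -a.t, -a.s + k.ι a.t * a.σ,
  -a.u - k.ι a.t * k.sh a.σ + k.cr a.σ a.s,
  -a.c + a.t * k.N a.σ - k.ℓ (a.s * k.sh a.σ) + k.ℓ (a.σ * a.u),
  -a.z - a.t ^ 2 * k.N a.σ - k.ℓ (a.σ * k.sh a.s) + a.t * k.ℓ (a.s * k.sh a.σ) + k.ℓ (a.s * a.u) -
    a.t * a.c⟩⟩

@[simp] theorem one_σ : (1 : U k).σ = 0 := rfl
@[simp] theorem one_t : (1 : U k).t = 0 := rfl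
@[simp] theorem one_s : (1 : U k).s = 0 := rfl
@[simp] theorem one_u : (1 : U k).u = 0 := rfl
@[simp] theorem one_c : (1 : U k).c = 0 := rfl
@[simp] theorem one_z : (1 : U k).z = 0 := rfl
@[simp] theorem mul_σ : (a * b).σ = a.σ + b.σ := rfl
@[simp] theorem mul_t : (a * b).t = a.t + b.t := rfl
theorem mul_s : (a * b).s = a.s + b.s + k.ι b.t * a.σ := rfl
theorem mul_u : (a * b).u = a.u + b.u + k.ι b.t * k.sh a.σ + k.cr a.σ b.s := rfl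
theorem mul_c : (a * b).c =
    a.c + b.c + b.t * k.N a.σ + k.ℓ (b.s * k.sh a.σ) + k.ℓ (a.σ * b.u) := rfl
theorem mul_z : (a * b).z = a.z + b.z + b.t ^ 2 * k.N a.σ + k.ℓ (a.σ * k.sh b.s) +
    b.t * k.ℓ (b.s * k.sh a.σ) + k.ℓ ((b.s + k.ι b.t * a.σ) * a.u) - b.t * a.c := rfl
@[simp] theorem inv_σ : a⁻¹.σ = -a.σ := rfl
@[simp] theorem inv_t : a⁻¹.t = -a.t := rfl
theorem inv_s : a⁻¹.s = -a.s + k.ι a.t * a.σ := rfl
theorem inv_u : a⁻¹.u = -a.u - k.ι a.t * k.sh a.σ + k.cr a.σ a.s := rfl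
theorem inv_c : a⁻¹.c = -a.c + a.t * k.N a.σ - k.ℓ (a.s * k.sh a.σ) + k.ℓ (a.σ * a.u) := rfl
theorem inv_z : a⁻¹.z = -a.z - a.t ^ 2 * k.N a.σ - k.ℓ (a.σ * k.sh a.s) +
    a.t * k.ℓ (a.s * k.sh a.σ) + k.ℓ (a.s * a.u) - a.t * a.c := rfl

theorem ext' {a b : U k} (h1 : a.σ = b.σ) (h2 : k.ι a.t = k.ι b.t) (h3 : a.s = b.s) (h4 : a.u = b.u)
    (h5 : k.ι a.c = k.ι b.c) (h6 : k.ι a.z = k.ι b.z) : a = b :=
  U.ext h1 (k.inj h2) h3 h4 (k.inj h5) (k.inj h6)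

instance instGroup : Group (U k) := Group.ofLeftAxioms
  (fun a b d => by
    refine ext' ?_ ?_ ?_ ?_ ?_ ?_ <;>
    simp only [mul_σ, mul_t, mul_s, mul_u, mul_c, mul_z, map_add, map_sub, map_mul, map_pow, k.ιℓ, k.ιN,
      CB.sh, CB.cr, k.φ3, k.φι] <;> ring)
  (fun a => by ext <;> simp [mul_s, mul_u, mul_c, mul_z])
  (fun a => by
    refine ext' ?_ ?_ ?_ ?_ ?_ ?_ <;>
    simp only [mul_σ, mul_t, mul_s, mul_u, mul_c, mul_z, inv_σ, inv_t, inv_s, inv_u, inv_c, inv_z,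
      map_add, map_sub, map_neg, map_mul, map_pow, k.ιℓ, k.ιN, CB.sh, CB.cr, k.φ3, k.φι, one_σ, one_t,
      one_s, one_u, one_c, one_z, map_zero] <;> ring)

/-- As a product. -/
def equivProd (k : CB F K) : U k ≃ K × F × K × K × F × F where
  toFun a := (a.σ, a.t, a.s, a.u, a.c, a.z)
  invFun p := ⟨p.1, p.2.1, p.2.2.1, p.2.2.2.1, p.2.2.2.2.1, p.2.2.2.2.2⟩

instance instFinite [Finite F] [Finite K] : Finite (U k) := Finite.of_equiv _ (equivProd k).symm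

theorem card [Finite F] [Finite K] : Nat.card (U k) = Nat.card F ^ 12 := by
  rw [Nat.card_congr (equivProd k)]; simp only [Nat.card_prod, k.card]; ring

theorem pgroup (p : ℕ) [Fact p.Prime] [CharP K p] [Finite F] [Finite K] : IsPGroup p (U k) := by
  have := k.charP_F p
  have := Fintype.ofFinite F
  obtain ⟨n, -, e⟩ := FiniteField.card F p
  exact IsPGroup.of_card (n := n * 12) (by rw [card, Nat.card_eq_fintype_card, e, pow_mul])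

/-- Expands all coordinates; finish with `ring`.  Apply `k.inj` first for the coordinates in `F`. -/
scoped macro "fd_simp" : tactic => `(tactic| simp only [commutatorElement_def, U.mul_σ, U.mul_t, U.mul_s,
  U.mul_u, U.mul_c, U.mul_z, U.inv_σ, U.inv_t, U.inv_s, U.inv_u, U.inv_c, U.inv_z, U.one_σ, U.one_t,
  U.one_s, U.one_u, U.one_c, U.one_z, map_add, map_sub, map_neg, map_mul, map_pow, map_zero, map_ofNat,
  CB.ιℓ, CB.ιN, CB.sh, CB.cr, CB.φ3, CB.φι])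

/-- The alternating form on `Q1 / Z1`. -/
def ω : F := a.t * b.c - b.t * a.c - k.ℓ (a.s * b.u) + k.ℓ (b.s * a.u)

/-! ### Conjugation -/

@[simp] theorem cj_σ : (a * b * a⁻¹).σ = b.σ := by simp
@[simp] theorem cj_t : (a * b * a⁻¹).t = b.t := by simp
theorem cj_s : (a * b * a⁻¹).s = b.s + k.ι b.t * a.σ - k.ι a.t * b.σ := by fd_simp; ring
theorem cj_u : (a * b * a⁻¹).u = b.u + k.ι b.t * k.sh a.σ + k.cr a.σ b.s -
    k.ι a.t * k.sh b.σ - k.cr b.σ a.s := by fd_simp; ring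
theorem cj_s_Q1 {b : U k} (h : b.σ = 0) : (a * b * a⁻¹).s = b.s + k.ι b.t * a.σ := by
  rw [cj_s, h]; simp
theorem cj_u_Q1 {b : U k} (h : b.σ = 0) : (a * b * a⁻¹).u =
    b.u + k.ι b.t * k.sh a.σ + k.cr a.σ b.s := by rw [cj_u, h]; simp
theorem cj_c_Q1 {b : U k} (h : b.σ = 0) : (a * b * a⁻¹).c =
    b.c + b.t * k.N a.σ + k.ℓ (b.s * k.sh a.σ) + k.ℓ (a.σ * b.u) :=
  k.inj (by fd_simp; simp only [h, map_zero]; ring)

/-! ### Commutators `⁅a, b⁆ = a b a⁻¹ b⁻¹` -/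

@[simp] theorem cm_σ : ⁅a, b⁆.σ = 0 := by simp [commutatorElement_def]
@[simp] theorem cm_t : ⁅a, b⁆.t = 0 := by simp [commutatorElement_def]
theorem cm_s : ⁅a, b⁆.s = k.ι b.t * a.σ - k.ι a.t * b.σ := by fd_simp; ring
theorem cm_u : ⁅a, b⁆.u =
    k.ι b.t * k.sh a.σ + k.cr a.σ b.s - k.ι a.t * k.sh b.σ - k.cr b.σ a.s := by fd_simp; ring
theorem cm_c_Q1 {b : U k} (h : b.σ = 0) : ⁅a, b⁆.c =
    b.t * k.N a.σ + k.ℓ (b.s * k.sh a.σ) + k.ℓ (a.σ * b.u) :=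
  k.inj (by fd_simp; simp only [h, map_zero]; ring)

/-! ### Root elements and subgroups -/

/-- Root element. -/
def x0 (k : CB F K) (l : F) : U k := ⟨0, 0, 0, 0, 0, l⟩
/-- Root element. -/
def x2 (k : CB F K) (l : F) : U k := ⟨0, 0, 0, 0, l, 0⟩
/-- Root element. -/
def x1 (k : CB F K) (l : K) : U k := ⟨0, 0, 0, l, 0, 0⟩
/-- Root element. -/
def x11 (k : CB F K) (l : K) : U k := ⟨0, 0, l, 0, 0, 0⟩
/-- Root element. -/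
def x10 (k : CB F K) (l : F) : U k := ⟨0, l, 0, 0, 0, 0⟩
/-- Root element. -/
def x3 (k : CB F K) (l : K) : U k := ⟨l, 0, 0, 0, 0, 0⟩

theorem x0_mul (x y : F) : x0 k x * x0 k y = x0 k (x + y) := by
  ext <;> simp [x0, mul_s, mul_u, mul_c, mul_z]
theorem x3_mul (x y : K) : x3 k x * x3 k y = x3 k (x + y) := by
  ext <;> simp [x3, mul_s, mul_u, mul_c, mul_z]
theorem x10_mul (x y : F) : x10 k x * x10 k y = x10 k (x + y) := by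
  ext <;> simp [x10, mul_s, mul_u, mul_c, mul_z]
@[simp] theorem x0_zero : x0 k 0 = 1 := rfl
@[simp] theorem x3_zero : x3 k 0 = 1 := rfl
@[simp] theorem x10_zero : x10 k 0 = 1 := rfl
theorem x0_eq_one {x : F} : x0 k x = 1 ↔ x = 0 := ⟨fun h => congrArg U.z h, fun h => h ▸ rfl⟩
theorem x0_inj {x y : F} (h : x0 k x = x0 k y) : x = y := congrArg U.z h
theorem x0_inv (x : F) : (x0 k x)⁻¹ = x0 k (-x) :=
  inv_eq_of_mul_eq_one_right (by rw [x0_mul, add_neg_cancel, x0_zero])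
theorem x3_inv (x : K) : (x3 k x)⁻¹ = x3 k (-x) :=
  inv_eq_of_mul_eq_one_right (by rw [x3_mul, add_neg_cancel, x3_zero])
theorem x10_inv (x : F) : (x10 k x)⁻¹ = x10 k (-x) :=
  inv_eq_of_mul_eq_one_right (by rw [x10_mul, add_neg_cancel, x10_zero])

/-- `σ = 0`; special of order `q^{1+8}`. -/
def Q1 (k : CB F K) : Subgroup (U k) where
  carrier := {a | a.σ = 0}
  one_mem' := rfl
  mul_mem' := by simp +contextual
  inv_mem' := by simp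
/-- `t = 0`; order `q^{11}`. -/
def Q2 (k : CB F K) : Subgroup (U k) where
  carrier := {a | a.t = 0}
  one_mem' := rfl
  mul_mem' := by simp +contextual
  inv_mem' := by simp
/-- `Q1 ⊓ Q2`; order `q^8`. -/
def H (k : CB F K) : Subgroup (U k) where
  carrier := {a | a.σ = 0 ∧ a.t = 0}
  one_mem' := ⟨rfl, rfl⟩
  mul_mem' := by simp +contextual
  inv_mem' := by simp
/-- Abelian of order `q^5`. -/
def W (k : CB F K) : Subgroup (U k) where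
  carrier := {a | a.σ = 0 ∧ a.t = 0 ∧ a.s = 0}
  one_mem' := ⟨rfl, rfl, rfl⟩
  mul_mem' := by simp +contextual [mul_s]
  inv_mem' := by simp +contextual [inv_s]
/-- The second centre, order `q^2`. -/
def Z2 (k : CB F K) : Subgroup (U k) where
  carrier := {a | a.σ = 0 ∧ a.t = 0 ∧ a.s = 0 ∧ a.u = 0}
  one_mem' := ⟨rfl, rfl, rfl, rfl⟩
  mul_mem' := by simp +contextual [mul_s, mul_u]
  inv_mem' := by simp +contextual [inv_s, inv_u]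
/-- The centre, order `q`. -/
def Z1 (k : CB F K) : Subgroup (U k) where
  carrier := {a | a.σ = 0 ∧ a.t = 0 ∧ a.s = 0 ∧ a.u = 0 ∧ a.c = 0}
  one_mem' := ⟨rfl, rfl, rfl, rfl, rfl⟩
  mul_mem' := by simp +contextual [mul_s, mul_u, mul_c]
  inv_mem' := by simp +contextual [inv_s, inv_u, inv_c]

variable {a b}

theorem mem_Q1 : a ∈ Q1 k ↔ a.σ = 0 := Iff.rfl
theorem mem_Q2 : a ∈ Q2 k ↔ a.t = 0 := Iff.rfl
theorem mem_H : a ∈ H k ↔ a.σ = 0 ∧ a.t = 0 := Iff.rfl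
theorem mem_W : a ∈ W k ↔ a.σ = 0 ∧ a.t = 0 ∧ a.s = 0 := Iff.rfl
theorem mem_Z2 : a ∈ Z2 k ↔ a.σ = 0 ∧ a.t = 0 ∧ a.s = 0 ∧ a.u = 0 := Iff.rfl
theorem mem_Z1 : a ∈ Z1 k ↔ a.σ = 0 ∧ a.t = 0 ∧ a.s = 0 ∧ a.u = 0 ∧ a.c = 0 := Iff.rfl

theorem Z1_Z2 : Z1 k ≤ Z2 k := fun _ h => ⟨h.1, h.2.1, h.2.2.1, h.2.2.2.1⟩
theorem Z2_W : Z2 k ≤ W k := fun _ h => ⟨h.1, h.2.1, h.2.2.1⟩
theorem W_H : W k ≤ H k := fun _ h => ⟨h.1, h.2.1⟩
theorem H_Q1 : H k ≤ Q1 k := fun _ h => h.1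
theorem H_Q2 : H k ≤ Q2 k := fun _ h => h.2
theorem W_Q1 : W k ≤ Q1 k := fun _ h => h.1
theorem W_Q2 : W k ≤ Q2 k := fun _ h => h.2.1
theorem Z2_Q1 : Z2 k ≤ Q1 k := fun _ h => h.1
theorem Z2_Q2 : Z2 k ≤ Q2 k := fun _ h => h.2.1
theorem Z1_Q1 : Z1 k ≤ Q1 k := fun _ h => h.1
theorem Z1_Q2 : Z1 k ≤ Q2 k := fun _ h => h.2.1
theorem Z1_W : Z1 k ≤ W k := Z1_Z2.trans Z2_W
theorem x0_mem (l : F) : x0 k l ∈ Z1 k := ⟨rfl, rfl, rfl, rfl, rfl⟩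
theorem x2_mem (l : F) : x2 k l ∈ Z2 k := ⟨rfl, rfl, rfl, rfl⟩
theorem x1_mem (l : K) : x1 k l ∈ W k := ⟨rfl, rfl, rfl⟩
theorem x11_mem (l : K) : x11 k l ∈ H k := ⟨rfl, rfl⟩
theorem x10_mem (l : F) : x10 k l ∈ Q1 k := rfl
theorem x3_mem (l : K) : x3 k l ∈ Q2 k := rfl
theorem eq_x0 (h : a ∈ Z1 k) : a = x0 k a.z := U.ext h.1 h.2.1 h.2.2.1 h.2.2.2.1 h.2.2.2.2 rfl

theorem cm_H (a b : U k) : ⁅a, b⁆ ∈ H k := ⟨cm_σ a b, cm_t a b⟩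
theorem cm_Q1 (ha : a ∈ Q1 k) (hb : b ∈ Q1 k) : ⁅a, b⁆ = x0 k (a.ω b) := by
  rw [mem_Q1] at ha hb
  refine ext' ?_ ?_ ?_ ?_ ?_ ?_ <;> simp only [x0, ω] <;> fd_simp <;> (try simp only [ha, hb, map_zero]) <;> ring
theorem cm_Q1Z (ha : a ∈ Q1 k) (hb : b ∈ Q1 k) : ⁅a, b⁆ ∈ Z1 k := cm_Q1 ha hb ▸ x0_mem _
theorem cm_HW (a : U k) (hb : b ∈ H k) : ⁅a, b⁆ ∈ W k :=
  ⟨cm_σ a b, cm_t a b, by rw [cm_s, hb.1, hb.2]; simp⟩
theorem cm_Q2W (ha : a ∈ Q2 k) (hb : b ∈ Q2 k) : ⁅a, b⁆ ∈ W k :=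
  ⟨cm_σ a b, cm_t a b, by rw [cm_s, mem_Q2.1 ha, mem_Q2.1 hb]; simp⟩
theorem cm_Q2_u (ha : a ∈ Q2 k) (hb : b ∈ Q2 k) : ⁅a, b⁆.u = k.cr a.σ b.s - k.cr b.σ a.s := by
  rw [cm_u, mem_Q2.1 ha, mem_Q2.1 hb]; simp
theorem cm_H_u (a : U k) (hb : b ∈ H k) : ⁅a, b⁆.u = k.cr a.σ b.s := by
  rw [cm_u, hb.1, hb.2]; simp
theorem cm_W (a : U k) (hb : b ∈ W k) : ⁅a, b⁆ =
    ⟨0, 0, 0, 0, k.ℓ (a.σ * b.u), a.t * (b.c + k.ℓ (a.σ * b.u)) - k.ℓ (a.s * b.u)⟩ := by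
  obtain ⟨h1, h2, h3⟩ := hb
  refine ext' ?_ ?_ ?_ ?_ ?_ ?_ <;> fd_simp <;> simp only [h1, h2, h3, map_zero] <;> ring
theorem cm_WZ (a : U k) (hb : b ∈ W k) : ⁅a, b⁆ ∈ Z2 k := cm_W a hb ▸ ⟨rfl, rfl, rfl, rfl⟩
theorem cm_Z2 (a : U k) (hb : b ∈ Z2 k) : ⁅a, b⁆ = x0 k (a.t * b.c) := by
  rw [cm_W a (Z2_W hb), hb.2.2.2]; simp [x0]
theorem cm_Z2Z (a : U k) (hb : b ∈ Z2 k) : ⁅a, b⁆ ∈ Z1 k := cm_Z2 a hb ▸ x0_mem _
theorem cm_Z1 (a : U k) (hb : b ∈ Z1 k) : ⁅a, b⁆ = 1 := by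
  rw [cm_Z2 a (Z1_Z2 hb), hb.2.2.2.2, mul_zero, x0_zero]
theorem comm_Z1 (a : U k) (hb : b ∈ Z1 k) : a * b = b * a :=
  commutatorElement_eq_one_iff_mul_comm.1 (cm_Z1 a hb)
theorem cm_Q2Z2 (ha : a ∈ Q2 k) (hb : b ∈ Z2 k) : ⁅a, b⁆ = 1 := by
  rw [cm_Z2 a hb, mem_Q2.1 ha, zero_mul, x0_zero]
theorem cm_WW (ha : a ∈ W k) (hb : b ∈ W k) : ⁅a, b⁆ = 1 := by
  rw [cm_W a hb, ha.1, ha.2.1, ha.2.2]; simp; rfl
theorem cm_swap {X : Type*} [Group X] {A : Subgroup X} {a b : X} (h : ⁅a, b⁆ ∈ A) : ⁅b, a⁆ ∈ A := by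
  simpa using inv_mem h
theorem cm1_swap {X : Type*} [Group X] {a b : X} (h : ⁅a, b⁆ = 1) : ⁅b, a⁆ = 1 :=
  commutatorElement_eq_one_iff_commute.2 (commutatorElement_eq_one_iff_commute.1 h).symm

theorem normal_of {A : Subgroup (U k)} (h : ∀ a : U k, ∀ b ∈ A, ⁅a, b⁆ ∈ A) : A.Normal :=
  ⟨fun b hb a => by simpa [commutatorElement_def] using mul_mem (h a b hb) hb⟩
instance Q1_normal : (Q1 k).Normal := normal_of fun a b _ => cm_σ a b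
instance Q2_normal : (Q2 k).Normal := normal_of fun a b _ => cm_t a b
instance H_normal : (H k).Normal := normal_of fun a b _ => cm_H a b
instance W_normal : (W k).Normal := normal_of fun a _ h => Z2_W (cm_WZ a h)
instance Z2_normal : (Z2 k).Normal := normal_of fun a _ h => Z1_Z2 (cm_Z2Z a h)
instance Z1_normal : (Z1 k).Normal := normal_of fun a _ h => cm_Z1 a h ▸ one_mem _

/-! ### Characterizations -/

theorem exists_cr_ne (k : CB F K) {s : K} (h : s ≠ 0) : ∃ σ, k.cr σ s ≠ 0 := by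
  by_cases h2 : (2 : K) = 0
  · obtain ⟨r, hr⟩ := k.ne
    refine ⟨r * s, fun e => ?_⟩
    obtain ⟨l, hl⟩ := (k.cr_eq_zero_two h2 h).1 (k.cr_comm _ _ ▸ e)
    exact hr (by rw [mul_right_cancel₀ h hl, k.φι])
  · exact ⟨1, fun e => (k.cr_eq_zero h2 e).elim one_ne_zero h⟩

theorem mem_Q2_of (h : ∀ b ∈ Z2 k, ⁅a, b⁆ = 1) : a ∈ Q2 k := by
  have := h _ (x2_mem 1)
  rw [cm_Z2 a (x2_mem 1), x0_eq_one] at this
  simpa [x2, mem_Q2] using this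
theorem mem_Q1_of (h : ∀ b ∈ W k, ⁅a, b⁆ ∈ Z1 k) : a ∈ Q1 k := k.eq_zero_of_ℓ fun u => by
  have := h _ (x1_mem u)
  rw [cm_W a (x1_mem u)] at this
  exact this.2.2.2.2
theorem mem_H_of (h : ∀ b : U k, ⁅b, a⁆ ∈ W k) : a ∈ H k := by
  have h1 := (h (x3 k 1)).2.2
  have h2 := (h (x10 k 1)).2.2
  rw [cm_s] at h1 h2
  exact ⟨by simpa [x10] using h2, by simpa [x3] using h1⟩
/-- `W = {a ∈ Q2 | ⁅Q2, a⁆ ≤ Z2}`. -/
theorem mem_W_of (ha : a ∈ Q2 k) (h : ∀ b ∈ Q2 k, ⁅b, a⁆ ∈ Z2 k) : a ∈ W k := by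
  refine ⟨by_contra fun c => ?_, ha, by_contra fun c => ?_⟩
  · obtain ⟨s, hs⟩ := exists_cr_ne k c
    have := (h _ (H_Q2 (x11_mem s))).2.2.2
    rw [cm_Q2_u (H_Q2 (x11_mem s)) ha] at this
    exact hs (by simpa [x11, k.cr_comm] using this)
  · obtain ⟨s, hs⟩ := exists_cr_ne k c
    have := (h _ (x3_mem s)).2.2.2
    rw [cm_Q2_u (x3_mem s) ha] at this
    exact hs (by simpa [x3] using this)
theorem mem_W_of' (h : ∀ b : U k, ⁅b, a⁆ ∈ Z2 k) : a ∈ W k :=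
  mem_W_of (H_Q2 (mem_H_of fun b => Z2_W (h b))) fun b _ => h b
/-- `C_{Q2}(W) = W`. -/
theorem mem_W_of_cm (ha : a ∈ Q2 k) (h : ∀ b ∈ W k, ⁅a, b⁆ = 1) : a ∈ W k := by
  have h1 : a.σ = 0 := mem_Q1_of fun b hb => h b hb ▸ one_mem _
  refine ⟨h1, ha, k.eq_zero_of_ℓ fun u => ?_⟩
  have := congrArg U.z (h _ (x1_mem u))
  rw [cm_W a (x1_mem u)] at this
  simpa [x1, mem_Q2.1 ha] using this
theorem mem_Z2_of' (ha : a ∈ W k) (h : ∀ σ, ⁅x3 k σ, a⁆ ∈ Z1 k) : a ∈ Z2 k :=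
  ⟨ha.1, ha.2.1, ha.2.2, k.eq_zero_of_ℓ fun σ => by
    have := h σ
    rw [cm_W _ ha] at this
    rw [mul_comm]; exact this.2.2.2.2⟩
theorem mem_Z2_of (h : ∀ b : U k, ⁅b, a⁆ ∈ Z1 k) : a ∈ Z2 k :=
  mem_Z2_of' (mem_W_of' fun b => Z1_Z2 (h b)) fun _ => h _
/-- `Z(Q2) = Z2`. -/
theorem mem_Z2_of_cm (ha : a ∈ Q2 k) (h : ∀ b ∈ Q2 k, ⁅b, a⁆ = 1) : a ∈ Z2 k :=
  mem_Z2_of' (mem_W_of ha fun b hb => h b hb ▸ one_mem _) fun σ => h _ (x3_mem σ) ▸ one_mem _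
/-- `C(Q1) = Z1`. -/
theorem mem_Z1_of (h : ∀ b ∈ Q1 k, ⁅b, a⁆ = 1) : a ∈ Z1 k := by
  have h1 : a.σ = 0 := mem_Q1_of fun b hb => cm1_swap (h b (W_Q1 hb)) ▸ one_mem _
  have e : ∀ b ∈ Q1 k, b.ω a = 0 := fun b hb => x0_eq_one.1 (cm_Q1 hb h1 ▸ h b hb)
  refine ⟨h1, ?_, k.eq_zero_of_ℓ fun u => ?_, k.eq_zero_of_ℓ fun s => ?_, ?_⟩
  · simpa [ω, x2] using e _ (Z2_Q1 (x2_mem 1))
  · simpa [ω, x1] using e _ (W_Q1 (x1_mem u))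
  · simpa [ω, x11, mul_comm] using e _ (H_Q1 (x11_mem s))
  · simpa [ω, x10] using e _ (x10_mem 1)

/-! ### Automorphisms preserve the subgroups -/

theorem aut_iff (α : MulAut (U k)) {A : Subgroup (U k)} (h : ∀ β : MulAut (U k), ∀ a ∈ A, β a ∈ A) :
    α a ∈ A ↔ a ∈ A := ⟨fun e => by simpa using h α⁻¹ _ e, h α a⟩
theorem aut_Z1 (α : MulAut (U k)) (a : U k) (h : a ∈ Z1 k) : α a ∈ Z1 k := mem_Z1_of fun b _ => by
  obtain ⟨b, rfl⟩ := α.surjective b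
  rw [← map_commutatorElement, cm_Z1 b h, map_one]
theorem aut_Z2 (α : MulAut (U k)) (a : U k) (h : a ∈ Z2 k) : α a ∈ Z2 k := mem_Z2_of fun b => by
  obtain ⟨b, rfl⟩ := α.surjective b
  rw [← map_commutatorElement]; exact aut_Z1 α _ (cm_Z2Z b h)
theorem aut_W (α : MulAut (U k)) (a : U k) (h : a ∈ W k) : α a ∈ W k := mem_W_of' fun b => by
  obtain ⟨b, rfl⟩ := α.surjective b
  rw [← map_commutatorElement]; exact aut_Z2 α _ (cm_WZ b h)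
theorem aut_H (α : MulAut (U k)) (a : U k) (h : a ∈ H k) : α a ∈ H k := mem_H_of fun b => by
  obtain ⟨b, rfl⟩ := α.surjective b
  rw [← map_commutatorElement]; exact aut_W α _ (cm_HW b h)
theorem aut_Q2 (α : MulAut (U k)) (a : U k) (h : a ∈ Q2 k) : α a ∈ Q2 k := mem_Q2_of fun b hb => by
  obtain ⟨b, rfl⟩ := α.surjective b
  rw [← map_commutatorElement, cm_Q2Z2 h ((aut_iff α aut_Z2).1 hb), map_one]
theorem aut_Q1 (α : MulAut (U k)) (a : U k) (h : a ∈ Q1 k) : α a ∈ Q1 k := mem_Q1_of fun b hb => by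
  obtain ⟨b, rfl⟩ := α.surjective b
  rw [← map_commutatorElement]; exact aut_Z1 α _ (cm_Q1Z h (W_Q1 ((aut_iff α aut_W).1 hb)))

end U

end Cfsg.Lib.FD
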